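/-
`E₈(3)`, `L₂(7)`: the adjoint module over the prime field and the standard four-group.
-/
import Cfsg.Agent.KSG.E87.Defs
import Cfsg.Agent.KSG.E81.Defs
import Cfsg.Agent.CHEV.SsInv
import Cfsg.Agent.CHEV.ToriGlue

set_option autoImplicit false
set_option maxRecDepth 20000
set_option backward.isDefEq.respectTransparency false

namespace CL.E87
open Module Function Finset CL.Chev CL.AltE Cfsg.Lie
open CL.E82 (R8)
open CL.E83 (K3 G3)
open CL.E81 (Γ3 sig psi alg tor8)

/-- the adjoint module -/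
abbrev VV := chevE8.Idx → k3
/-- the adjoint representation -/
noncomputable def r3 : G3 →* End k3 VV := (toEnd _ k3).comp (adj chevE8 k3)
/-- the root system -/
abbrev RS := rootSys chevE8
/-- the root data of the algebraic group -/
noncomputable abbrev SS := stS chevE8 K3
/-- coroot coordinates of the first involution -/
def a1 : Fin 8 → ℤ := ![0, 1, 1, 0, 0, 0, 0, 0]
/-- coroot coordinates of the second involution -/
def a2 : Fin 8 → ℤ := ![0, 0, 1, 0, 1, 0, 0, 0]
/-- the first involution -/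
noncomputable def t1 : Fin 8 → K3ˣ := fun i => (-1) ^ a1 i
/-- the second involution -/
noncomputable def t2 : Fin 8 → K3ˣ := fun i => (-1) ^ a2 i
/-- the subsystem `D₄D₄` -/
def PP : Set R8 := RS.Phi t1 ∩ RS.Phi t2
/-- its positive roots -/
def PQ : Set R8 := {r | RS.IsPos r} ∩ PP
/-- the positive roots of the first factor -/
def D1 : List (Fin 240) := [126, 130, 131, 135, 136, 137, 141, 142, 143, 147, 148, 152]
/-- the positive roots of the second factor -/
def D2 : List (Fin 240) := [120, 121, 122, 159, 160, 161, 226, 227, 228, 237, 238, 239]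
/-- the base: centre and leaves of the first factor, then their images in the second factor -/
def bs : Fin 8 → Fin 240 := ![130, 141, 135, 126, 120, 159, 121, 226]
/-- a word for the element swapping the factors -/
def l0 : List (Fin 8) := [0, 2, 3, 1, 5, 4, 3, 1, 2, 0, 3, 2, 6, 5, 4, 3, 1, 2, 0, 3, 2, 4, 3, 5, 7, 6, 5, 4, 3, 1, 2, 0, 3, 2, 4,
  3, 1, 5, 4, 3, 2, 0, 6, 5, 4, 7, 6, 5]
/-- a word for `-1` -/
def lN : List (Fin 8) := [0, 1, 2, 0, 3, 1, 2, 0, 3, 2, 4, 3, 1, 2, 0, 3, 2, 4, 3, 1, 5, 4, 3, 1, 2, 0, 3, 2, 4, 3, 1, 5, 4, 3, 2, 0,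
  6, 5, 4, 3, 1, 2, 0, 3, 2, 4, 3, 1, 5, 4, 3, 2, 0, 6, 5, 4, 3, 1, 2, 3, 4, 5, 6, 7, 6, 5, 4, 3, 1, 2, 0, 3, 2, 4, 3, 1, 5, 4, 3, 2,
  0, 6, 5, 4, 3, 1, 2, 3, 4, 5, 6, 7, 6, 5, 4, 3, 1, 2, 0, 3, 2, 4, 3, 1, 5, 4, 3, 2, 0, 6, 5, 4, 3, 1, 2, 3, 4, 5, 6, 7]
/-- the element of the Weyl group swapping the factors -/
noncomputable def w0 : Equiv.Perm R8 := (l0.map RS.sp).prod
/-- the element `-1` of the Weyl group -/
noncomputable def wN : Equiv.Perm R8 := (lN.map RS.sp).prod
/-- a representative of `w0` -/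
noncomputable def n0 : Γ3 := SS.nw l0
/-- the centraliser of the four-group -/
noncomputable def CC : Subgroup Γ3 := Subgroup.centralizer {tor8 t1} ⊓ Subgroup.centralizer {tor8 t2}
/-- its connected component -/
noncomputable def C0 : Subgroup Γ3 := SS.XS PP ⊔ SS.H
/-- the twisted Frobenius map -/
noncomputable def tau : Monoid.End Γ3 := twE n0 sig

theorem acts_n0 : SS.Acts n0 w0 := SS.acts_nw l0
theorem acts_nN : SS.Acts (SS.nw lN) wN := SS.acts_nw lN
theorem w0_mem : w0 ∈ RS.W := acts_n0.mem_W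
theorem wN_mem : wN ∈ RS.W := acts_nN.mem_W
theorem n0_mem : n0 ∈ SS.N := SS.nw_mem_N l0
theorem sig_n0 : sig n0 = n0 := alg.map_nw l0
theorem w0_apply (r : R8) : w0 r = piL (D := chevE8) l0 r := piL_eq (D := chevE8) l0 r
theorem wN_apply (r : R8) : wN r = ng r :=
  (piL_eq (D := chevE8) lN r).trans ((by decide +kernel : ∀ r : R8, piL (D := chevE8) lN r = ng r) r)
theorem gf_tau : SS.GF sig tau := alg.gf_twE alg.gf acts_n0
instance simpleG3 : IsSimpleGroup G3 := isSimpleGroup_group (by simp) fun _ => ⟨2, by decide, by decide⟩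

end CL.E87
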