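/-
`E₈(3)`, `L₂(7)`: the roots of the standard four-group.
-/
import Cfsg.Agent.KSG.E87.Alg
import Cfsg.Agent.CHEV.SubLev
import Cfsg.Agent.CHEV.CommChk

set_option autoImplicit false
set_option maxRecDepth 20000
set_option backward.isDefEq.respectTransparency false

namespace CL.E87
open Module Function Finset CL.Chev CL.AltE Cfsg.Lie
open CL.E82 (R8)
open CL.E83 (K3 G3)
open CL.E81 (Γ3 sig psi alg tor8)

theorem ord_neg : orderOf (-1 : K3ˣ) = 2 :=
  orderOf_neg_one_units (two_ne_zero_of_odd (F := ZMod 3) (by rw [ZMod.card]; decide))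

theorem mem_Phi_iff (a : Fin 8 → ℤ) (r : R8) :
    r ∈ RS.Phi (fun i => (-1 : K3ˣ) ^ a i) ↔ (2 : ℤ) ∣ a ⬝ᵥ wtv (D := chevE8) r := by
  rw [RootSys.Phi_zpow_const, ord_neg, ← wt_eq_wtv]; rfl

theorem mem_PP (r : R8) : r ∈ PP ↔ r ∈ D1 ∨ r ∈ D2 ∨ ng r ∈ D1 ∨ ng r ∈ D2 := by
  refine ((mem_Phi_iff a1 r).and (mem_Phi_iff a2 r)).trans ?_
  revert r; decide +kernel

theorem isPos_iff (r : R8) : RS.IsPos r ↔ 120 ≤ (r : Fin 240).1 := by
  rw [RootSys.IsPos, rootSys_ht']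
  revert r; decide +kernel

theorem mem_PQ (r : R8) : r ∈ PQ ↔ r ∈ D1 ∨ r ∈ D2 := by
  rw [PQ, Set.mem_inter_iff, mem_PP, Set.mem_ofPred_eq, isPos_iff]
  revert r; decide +kernel

theorem ncard_PQ : PQ.ncard = 24 := by
  have : PQ = ((univ.filter fun r : R8 => r ∈ D1 ∨ r ∈ D2 : Finset R8) : Set R8) :=
    Set.ext fun r => (mem_PQ r).trans (by simp only [coe_filter, mem_univ, true_and, Set.mem_ofPred_eq])
  rw [this, Set.ncard_coe_finset]; decide +kernel

theorem closed_PP : RS.Closed PP := (RootSys.closed_Phi _).inter (RootSys.closed_Phi _)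
theorem closed_PQ : RS.Closed PQ := RS.closed_pos.inter closed_PP
theorem neg_mem_PP : ∀ r ∈ PP, RS.neg r ∈ PP := fun _ h => ⟨RootSys.neg_mem_Phi h.1, RootSys.neg_mem_Phi h.2⟩

theorem base_PP : RS.IsBase PP bs := by
  refine ⟨fun s hs r hr => ⟨RootSys.refl_mem_Phi _ s hs.1 r hr.1, RootSys.refl_mem_Phi _ s hs.2 r hr.2⟩, fun i => ?_,
    fun i => ?_, fun r hr hp => ?_⟩
  · rw [mem_PP]; revert i; decide
  · rw [isPos_iff]; revert i; decide
  · have h := (mem_PQ r).1 ⟨hp, hr⟩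
    simp only [rootSys_pair', rootSys_ht']
    clear hr hp
    revert r; decide +kernel

theorem w0_w0 (r : R8) : w0 (w0 r) = r := by
  rw [w0_apply, w0_apply]; revert r; decide +kernel

theorem w0_mul : w0 * w0 = 1 := Equiv.ext w0_w0

theorem w0_D1 (r : R8) : (w0 r ∈ D1 ↔ r ∈ D2) ∧ (w0 r ∈ D2 ↔ r ∈ D1) := by
  rw [w0_apply]; revert r; decide +kernel

theorem w0_PQ (r : R8) : w0 r ∈ PQ ↔ r ∈ PQ := by
  rw [mem_PQ, mem_PQ, (w0_D1 r).1, (w0_D1 r).2, or_comm]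

/-- the action on the elements of order two of the torus -/
theorem act_sgn {w : Equiv.Perm R8} (a b : Fin 8 → ℤ) :
    (RS.act w fun i => (-1 : K3ˣ) ^ a i) = (fun i => (-1 : K3ˣ) ^ b i) ↔
      ∀ i : Fin 8, (2 : ℤ) ∣ ∑ j : Fin 8, a j * (Good.C chevE8).cor (w (sm (D := chevE8) j)) i - b i := by
  rw [RootSys.act_zpow_const, funext_iff]
  refine forall_congr' fun i => ?_
  rw [zpow_eq_zpow_iff_modEq, ord_neg, Int.modEq_iff_dvd, ← dvd_neg, neg_sub,
    show RS.coM w = corM (D := chevE8) w from corM_eq (D := chevE8) w]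
  rfl

theorem act_w0 : RS.act w0 t1 = t1 ∧ RS.act w0 t2 = t2 := by
  constructor
  · refine (act_sgn a1 a1).2 ?_; simp only [w0_apply]; decide +kernel
  · refine (act_sgn a2 a2).2 ?_; simp only [w0_apply]; decide +kernel

theorem act_wN : RS.act wN t1 = t1 ∧ RS.act wN t2 = t2 := by
  constructor
  · refine (act_sgn a1 a1).2 ?_; simp only [wN_apply]; decide +kernel
  · refine (act_sgn a2 a2).2 ?_; simp only [wN_apply]; decide +kernel

theorem PP_of_act {w : Equiv.Perm R8} (hw : w ∈ RS.W) (h1 : RS.act w t1 = t1) (h2 : RS.act w t2 = t2) (r : R8) :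
    w r ∈ PP ↔ r ∈ PP := by
  have e1 := RootSys.mem_Phi_act (t := t1) (r := r) hw
  have e2 := RootSys.mem_Phi_act (t := t2) (r := r) hw
  rw [h1] at e1; rw [h2] at e2
  exact and_congr e1 e2

theorem w0_PP (r : R8) : w0 r ∈ PP ↔ r ∈ PP := PP_of_act w0_mem act_w0.1 act_w0.2 r

theorem act_WS {w : Equiv.Perm R8} (hw : w ∈ RS.WS PP) : RS.act w t1 = t1 ∧ RS.act w t2 = t2 :=
  ⟨RootSys.act_eq_of_mem_WS (Subgroup.closure_mono (Set.image_mono Set.inter_subset_left) hw),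
    RootSys.act_eq_of_mem_WS (Subgroup.closure_mono (Set.image_mono Set.inter_subset_right) hw)⟩

theorem mem_CC {g : Γ3} : g ∈ CC ↔ g * tor8 t1 * g⁻¹ = tor8 t1 ∧ g * tor8 t2 * g⁻¹ = tor8 t2 := by
  simp only [CC, Subgroup.mem_inf, Subgroup.mem_centralizer_singleton_iff, mul_inv_eq_iff_eq_mul]

theorem mem_CC_of_acts {m : Γ3} {w : Equiv.Perm R8} (h : SS.Acts m w) (h1 : RS.act w t1 = t1) (h2 : RS.act w t2 = t2) :
    m ∈ CC := mem_CC.2 ⟨(alg.r3.conj_torHom h t1).trans (congrArg _ h1), (alg.r3.conj_torHom h t2).trans (congrArg _ h2)⟩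

theorem n0_CC : n0 ∈ CC := mem_CC_of_acts acts_n0 act_w0.1 act_w0.2

theorem C0_le : C0 ≤ CC :=
  le_inf ((sup_le_sup_right (SS.XS_mono Set.inter_subset_left) _).trans (alg.r3.XS_Phi_le alg.good t1))
    ((sup_le_sup_right (SS.XS_mono Set.inter_subset_right) _).trans (alg.r3.XS_Phi_le alg.good t2))

end CL.E87
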