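/-
`E₈(3)`, `L₂(7)`: Bruhat cells of the centraliser.
-/
import Cfsg.Agent.KSG.E87.Rts

set_option autoImplicit false
set_option maxRecDepth 20000
set_option backward.isDefEq.respectTransparency false

namespace CL.E87
open Module Function Finset CL.Chev CL.AltE Cfsg.Lie
open CL.E82 (R8)
open CL.E83 (K3 G3)
open CL.E81 (Γ3 sig psi alg tor8)

/-- the injectivity half of `StData.Alg.card_centralizer` (CHEV/SsSub): (u, h, j, v) ↦ u (h m j) v; `eq_of_bruhat'`,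
`normal_unique'`; `C0_le`; finiteness from `alg.finite_fixS_of_pow hτ.pow` -/
theorem cell {τ : Monoid.End Γ3} (hτ : SS.GF sig τ) {J : Type} [Fintype J] {m : J → Γ3} {w : J → Equiv.Perm R8}
    (hN : ∀ j, m j ∈ SS.N) (ha : ∀ j, SS.Acts (m j) (w j)) (hf : ∀ j, τ (m j) = m j) (hc : ∀ j, m j ∈ CC) (hw : Injective w) :
    Nat.card ↥(SS.XS PQ ⊓ fixS τ) * (Nat.card ↥(SS.H ⊓ fixS τ) *
      ∑ j, Nat.card ↥(SS.XS (RS.invs (w j) ∩ PP) ⊓ fixS τ)) ≤ Nat.card ↥(CC ⊓ fixS τ) := by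
  have := alg.finite_fixS_of_pow hτ.pow
  have fin : ∀ X : Subgroup Γ3, Finite ↥(X ⊓ fixS τ) := fun X =>
    Finite.of_injective _ (Subgroup.inclusion_injective inf_le_right)
  have hC : ∀ T, SS.XS (T ∩ PP) ≤ CC := fun T =>
    (SS.XS_mono Set.inter_subset_right).trans (le_sup_left.trans C0_le)
  have hH : SS.H ≤ CC := le_sup_right.trans C0_le
  have hm : ∀ j, ∀ h ∈ SS.H, h * m j ∈ SS.N ∧ SS.Acts (h * m j) (w j) := fun j h hh =>
    ⟨mul_mem (SS.H_le_N hh) (hN j), by simpa using (SS.acts_of_mem_H hh).mul (ha j)⟩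
  let f : ↥(SS.XS PQ ⊓ fixS τ) × ↥(SS.H ⊓ fixS τ) × (Σ j, ↥(SS.XS (RS.invs (w j) ∩ PP) ⊓ fixS τ)) →
      ↥(CC ⊓ fixS τ) := fun p =>
    ⟨p.1 * (p.2.1 * m p.2.2.1) * p.2.2.2, mul_mem (mul_mem (hC _ p.1.2.1) (mul_mem (hH p.2.1.2.1) (hc _)))
      (hC _ p.2.2.2.2.1), mul_mem (mul_mem p.1.2.2 (mul_mem p.2.1.2.2 (mem_fixS.2 (hf _)))) p.2.2.2.2.2⟩
  have hi : Injective f := by
    rintro ⟨⟨u, hu, hu1⟩, ⟨h, hh, hh1⟩, j, v, hv, hv1⟩ ⟨⟨u', hu', hu1'⟩, ⟨h', hh', hh1'⟩, j', v', hv', hv1'⟩ e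
    have e1 : u * (h * m j) * v = u' * (h' * m j') * v' := congrArg Subtype.val e
    have b1 := SS.XS_mono Set.inter_subset_left hu
    have b2 := SS.XS_mono Set.inter_subset_left hu'
    have b3 := SS.XS_mono Set.inter_subset_left hv
    have b4 := SS.XS_mono Set.inter_subset_left hv'
    obtain rfl : j = j' := hw (alg.good.eq_of_bruhat' (hm j h hh).2 (hm j' h' hh').2 (SS.U_le_B b1)
      (SS.U_le_B (SS.XS_le_U (fun _ h => h.1) b3)) (SS.U_le_B b2) (SS.U_le_B (SS.XS_le_U (fun _ h => h.1) b4)) e1)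
    obtain ⟨rfl, e2, rfl⟩ := alg.good.normal_unique' (hm j h hh).1 (hm j h' hh').1 (hm j h hh).2 (hm j h' hh').2
      b1 b2 b3 b4 e1
    obtain rfl := mul_right_cancel e2
    rfl
  have h4 := Nat.card_le_card_of_injective f hi
  rwa [Nat.card_prod, Nat.card_prod, Nat.card_sigma] at h4

end CL.E87
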