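/-
`E₈(3)`, `L₂(7)`: the component group of the centraliser of the four-group.
-/
import Cfsg.Agent.KSG.E87.Rts

set_option autoImplicit false
set_option maxRecDepth 20000
set_option backward.isDefEq.respectTransparency false

namespace CL.E87
open Module Function Finset CL.Chev CL.AltE Cfsg.Lie
open CL.E82 (R8)
open CL.E83 (K3 G3)
open CL.E81 (Γ3 sig psi alg tor8)

namespace CompA

theorem normal {g : Γ3} (hg : g ∈ CC) : ∃ u ∈ SS.XS PQ, ∃ m ∈ SS.N, ∃ w, SS.Acts m w ∧ RS.act w t1 = t1 ∧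
    RS.act w t2 = t2 ∧ ∃ u' ∈ SS.XS (RS.invs w ∩ PP), g = u * m * u' := by
  obtain ⟨h1, h2⟩ := mem_CC.1 hg
  obtain ⟨u, hu, m, hm, w, hw, u', hu', rfl⟩ := StData.exists_normal' (alg.mem g)
  have k : ∀ t, u * m * u' * tor8 t * (u * m * u')⁻¹ = tor8 t → tor8 t * u * (tor8 t)⁻¹ = u ∧ RS.act w t = t ∧
      tor8 t * u' * (tor8 t)⁻¹ = u' := fun t e => by
    obtain ⟨e1, e2, e3⟩ := alg.good.conj_normal (alg.r3.torHom_mem t) hm hw hu hu' (one_mem _) (one_mem _)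
      ((mul_inv_eq_iff_eq_mul.2 (mul_inv_eq_iff_eq_mul.1 e).symm).trans (mul_one _).symm)
    refine ⟨e1, alg.sc ?_, e3⟩
    rw [← alg.r3.conj_torHom hw, mul_inv_eq_iff_eq_mul, ← mul_inv_eq_iff_eq_mul.1 (e2.trans (mul_one m))]
  obtain ⟨a1, a2, a3⟩ := k _ h1
  obtain ⟨b1, b2, b3⟩ := k _ h2
  have c : ∀ T : Set R8, (∀ r ∈ T, RS.IsPos r) → RS.Closed T → ∀ x ∈ SS.XS T, tor8 t1 * x * (tor8 t1)⁻¹ = x →
      tor8 t2 * x * (tor8 t2)⁻¹ = x → x ∈ SS.XS (T ∩ PP) := fun T hT hc x hx e1 e2 => by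
    have := alg.r3.mem_XS_Phi alg.good (fun r h => hT r h.1) (hc.inter (RootSys.closed_Phi _))
      (alg.r3.mem_XS_Phi alg.good hT hc hx e1) e2
    rwa [Set.inter_assoc] at this
  exact ⟨u, c _ (fun _ h => h) RS.closed_pos u hu a1 b1, m, hm, w, hw, a2, b2, u',
    c _ (fun _ h => h.1) (RS.closed_invs hw.mem_W) u' hu' a3 b3, rfl⟩

theorem mem_C0 {m : Γ3} {w : Equiv.Perm R8} (hm : m ∈ SS.N) (hw : SS.Acts m w) (h : w ∈ RS.WS PP) : m ∈ C0 := by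
  obtain ⟨m', h1, h2, h4⟩ := SS.exists_acts_of_mem_WS neg_mem_PP h
  rw [← mul_inv_cancel_left m' m]
  exact Subgroup.mul_mem_sup h2 (alg.good.inv_mul_mem_H h1 hm h4 hw)

theorem conj_n0 {c : Γ3} (hc : c ∈ C0) : n0 * c * n0⁻¹ ∈ C0 := by
  have : C0 ≤ C0.comap (MulAut.conj n0).toMonoidHom := sup_le
    (fun x hx => Subgroup.mem_sup_left (acts_n0.conj_mem_XS (fun r hr => (w0_PP r).2 hr) hx))
    fun x hx => Subgroup.mem_sup_right (by
      obtain ⟨t, rfl⟩ := alg.r3.range_torHom ▸ hx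
      have := alg.r3.torHom_mem (RS.act w0 t)
      rw [← alg.r3.conj_torHom acts_n0 t] at this
      exact this)
  exact this hc

theorem n0_sq : n0 * n0 ∈ SS.H :=
  alg.good.mem_H_of_acts_one (mul_mem n0_mem n0_mem) (w0_mul ▸ acts_n0.mul acts_n0)

theorem conj_n0' {c : Γ3} (hc : c ∈ C0) : n0⁻¹ * c * n0 ∈ C0 := by
  have h := (Subgroup.mem_sup_right n0_sq : n0 * n0 ∈ C0)
  rw [show n0⁻¹ * c * n0 = n0 * ((n0 * n0)⁻¹ * c * (n0 * n0)) * n0⁻¹ by group]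
  exact conj_n0 (mul_mem (mul_mem (inv_mem h) hc) h)

theorem comp (wst : ∀ w ∈ RS.W, RS.act w t1 = t1 → RS.act w t2 = t2 → w ∈ RS.WS PP ∨ w * w0 ∈ RS.WS PP)
    {g : Γ3} (hg : g ∈ CC) : g ∈ C0 ∨ g * n0⁻¹ ∈ C0 := by
  obtain ⟨u, hu, m, hm, w, hw, a, b, u', hu', rfl⟩ := normal hg
  have h1 : u ∈ C0 := Subgroup.mem_sup_left (SS.XS_mono Set.inter_subset_right hu)
  have h2 : u' ∈ C0 := Subgroup.mem_sup_left (SS.XS_mono Set.inter_subset_right hu')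
  rcases wst w hw.mem_W a b with h | h
  · exact .inl (mul_mem (mul_mem h1 (mem_C0 hm hw h)) h2)
  · right
    have h3 := mem_C0 (mul_mem hm n0_mem) (hw.mul acts_n0) h
    have h4 := (Subgroup.mem_sup_right n0_sq : n0 * n0 ∈ C0)
    rw [show u * m * u' * n0⁻¹ = u * (m * n0) * (n0 * n0)⁻¹ * (n0 * u' * n0⁻¹) by group]
    exact mul_mem (mul_mem (mul_mem h1 h3) (inv_mem h4)) (conj_n0 h2)

theorem lang_C0 {τ : Monoid.End Γ3} (h : SS.GF sig τ) (h1 : τ (tor8 t1) = tor8 t1) (h2 : τ (tor8 t2) = tor8 t2) :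
    LangIn τ C0 := by
  refine (alg.lang_XS h.pow fun r hr => ?_).sup (alg.lang_H h) h.H (SS.H_le_normalizer_XS _)
  obtain ⟨b, c, k, hc, e⟩ := h.x r
  have key : ∀ t, τ (tor8 t) = tor8 t → r ∈ RS.Phi t → b ∈ RS.Phi t := fun t et hr =>
    (alg.r3.x_comm_torHom_iff alg.good t b (u := c * 1 ^ k) (by simpa using hc)).1 (by
      have e2 := congrArg τ ((alg.r3.x_comm_torHom_iff alg.good t r one_ne_zero).2 hr)
      rw [map_mul, map_mul, map_inv, e] at e2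
      exact (congrArg (fun y => y * SS.x b (c * 1 ^ k) * y⁻¹) et).symm.trans e2)
  exact ⟨b, ⟨key _ h1 hr.1, key _ h2 hr.2⟩, c, k, e⟩

end CompA

end CL.E87
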