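/-
`E₈(3)`, `L₂(7)`: descent in the Weyl group.
-/
import Cfsg.Agent.KSG.E87.Rts

set_option autoImplicit false
set_option maxRecDepth 20000
set_option backward.isDefEq.respectTransparency false

namespace CL.E87
open Module Function Finset CL.Chev CL.AltE Cfsg.Lie
open CL.E82 (R8)
open CL.E83 (K3 G3)
open CL.E81 (Γ3 sig psi alg tor8)

/-- descent for a subsystem with a base -/
theorem WStA.gen {ι κ κ' : Type*} [Fintype ι] [DecidableEq ι] [Fintype κ] [DecidableEq κ] {R : RootSys ι κ} {T : Set ι}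
    {β : κ' → ι} (hb : R.IsBase T β) {w : Equiv.Perm ι} (hw : w ∈ R.W) : ∃ v ∈ R.WS T, ∀ i, R.IsPos (w (v (β i))) := by
  classical
  let S : Finset ι := univ.filter fun r => r ∈ T ∧ R.IsPos r
  let f : Equiv.Perm ι → ℤ := fun v => ∑ r ∈ S, R.ht (w (v r))
  obtain ⟨v, hv, hm⟩ := Set.exists_max_image (R.WS T : Set (Equiv.Perm ι)) f (Set.toFinite _) ⟨1, one_mem _⟩
  refine ⟨v, hv, fun i => ?_⟩
  have hi : β i ∈ S := by simp [S, hb.mem i, hb.pos i]
  have hs : ∀ r ∈ S.erase (β i), R.refl (β i) r ∈ S.erase (β i) := fun r hr => by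
    simp only [S, mem_erase, mem_filter, mem_univ, true_and] at hr ⊢
    refine ⟨fun e => ?_, hb.refl_mem _ (hb.mem i) r hr.2.1, hb.isPos_refl hr.2.1 hr.2.2 hr.1⟩
    have e2 : r = R.neg (β i) := by rw [← R.refl_refl (β i) r, e, R.refl_self]
    exact (R.isPos_neg _).1 (e2 ▸ hr.2.2) (hb.pos i)
  have e1 : ∑ r ∈ S.erase (β i), R.ht (w (v (R.refl (β i) r))) = ∑ r ∈ S.erase (β i), R.ht (w (v r)) :=
    sum_bij' (fun r _ => R.refl (β i) r) (fun r _ => R.refl (β i) r) hs hs (fun r _ => R.refl_refl _ r)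
      (fun r _ => R.refl_refl _ r) fun _ _ => rfl
  have h := hm (v * R.refl (β i)) (mul_mem hv (R.refl_mem_WS (hb.mem i)))
  simp only [f, Equiv.Perm.mul_apply] at h
  rw [← add_sum_erase S _ hi, ← add_sum_erase S _ hi, e1, R.refl_self, R.W_neg (R.WS_le_W T hv), R.W_neg hw,
    R.ht_neg] at h
  have h0 := R.ht_ne_zero (w (v (β i)))
  unfold RootSys.IsPos
  omega

/-- Choose v ∈ WS PP (finite) maximising F v = ∑_{r ∈ PQ} ht (w (v r)). The reflection s = refl (bs i) ∈ WS PP permutes PQ minus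
{bs i} (`base_PP.isPos_refl`, `refl_mem`) and sends bs i to its negative, so F (v s) = F v - 2 ht (w (v (bs i))) (elements of W
commute with neg, ht (neg r) = - ht r); hence ht ≥ 0, and ht ≠ 0 for a root. -/
theorem wstA {w : Equiv.Perm R8} (hw : w ∈ RS.W) : ∃ v ∈ RS.WS PP, ∀ i, RS.IsPos (w (v (bs i))) :=
  WStA.gen base_PP hw

end CL.E87
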