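/-
`E₈(3)`, `L₂(7)`: the stabiliser in the Weyl group.
-/
import Cfsg.Agent.KSG.E87.WStA

set_option autoImplicit false
set_option maxRecDepth 20000
set_option backward.isDefEq.respectTransparency false

namespace CL.E87
open Module Function Finset CL.Chev CL.AltE Cfsg.Lie
open CL.E82 (R8)
open CL.E83 (K3 G3)
open CL.E81 (Γ3 sig psi alg tor8)

namespace WStB

/-- the pairing -/
def pr (r s : Fin 240) : ℤ := (Good.C chevE8).pairF chevE8.rank (r : R8) (s : R8)
/-- the congruence -/
def cg (a : Fin 8 → ℤ) (r s : Fin 240) : Prop :=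
  ∀ k : Fin 8, (2 : ℤ) ∣ (Good.C chevE8).cor r k + (Good.C chevE8).cor s k - a k
instance (a : Fin 8 → ℤ) (r s : Fin 240) : Decidable (cg a r s) := by unfold cg; infer_instance
/-- the pairings with the base, as one number -/
def code (r : Fin 240) : ℕ := ((List.finRange 8).foldl (fun n i => 5 * n + (pr (bs i) r + 2)) 0).toNat
/-- the table of the codes -/
def tb : List ℕ := [195187, 195406, 195291, 194686, 117811, 254686, 182811, 207811, 135936, 272811, 195936, 195331, 195216, 195435, 179662, 132787, 269662, 192787, 192182, 192067, 192286, 197787, 120912, 120307, 120192, 120411, 257787, 257182, 257067, 257286, 180307, 180192, 180411, 179587, 179806, 179691, 210912, 210307, 210192, 210411, 133432, 133317, 133536, 132712, 132931, 132816, 270307, 270192, 270411, 269587, 269806, 269691, 192712, 192931, 192816, 192211, 198432, 198317, 198536, 197712, 197931, 197816, 120837, 121056, 120941, 120336, 257712, 257931, 257816, 257211, 180336, 210837, 211056, 210941, 210336, 133461, 270336, 198461, 195283, 195168,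 195387, 194563, 194782, 194667, 117688, 117907, 117792, 117187, 254563, 254782, 254667, 254062, 177187, 182688, 182907, 182792, 182187, 105312, 242187, 207688, 207907, 207792, 207187, 130312, 267187, 135813, 136032, 135917, 135312, 58437, 272688, 272907, 272792, 272187, 195813, 196032, 195917, 195208, 195427, 195093, 195531, 195197, 195416, 194707, 194592, 194811, 118437, 117832, 117717, 117936, 332187, 255312, 254707, 254592, 254811, 123437, 260312, 183437, 182832, 182717, 182936, 148437, 285312, 208437, 207832, 207717, 207936, 213437, 136562, 135957, 135842, 136061, 273437, 272832, 272717, 272936, 195957, 195842, 196061, 195237, 195456, 195341, 192163, 120288, 257163, 180288, 179683, 179568, 179787, 210288, 133413, 132808, 132693, 132912, 270288, 269683, 269568, 269787, 192808, 192693, 192912, 192088, 192307, 192192, 198413, 197808, 197693, 197912, 120933, 120818, 121037, 120213, 120432, 120317, 257808, 257693, 257912, 257088, 257307, 257192, 180213, 180432, 180317, 179712, 210933, 210818, 211037,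 210213, 210432, 210317, 133338, 133557, 133442, 132837, 270213, 270432, 270317, 269712, 192837, 198338, 198557, 198442, 197837, 120962, 257837, 210962, 195189, 195408, 195293, 194688, 117813, 254688, 182813, 207813, 135938, 272813, 195938, 195333, 195218, 195437]

theorem code_idx : ∀ r : Fin 240, tb.idxOf (code r) = r.1 := by decide +kernel

set_option synthInstance.maxSize 4000 in
set_option synthInstance.maxHeartbeats 400000 in
theorem search : ∀ x0 ∈ D1 ++ D2, ∀ x1 ∈ D1 ++ D2, pr x0 x1 = -1 → ∀ x2 ∈ D1 ++ D2, pr x0 x2 = -1 → pr x1 x2 = 0 →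
    cg a1 x1 x2 → ∀ x3 ∈ D1 ++ D2, pr x0 x3 = -1 → pr x1 x3 = 0 → pr x2 x3 = 0 → cg a2 x2 x3 →
      (x0 = 130 ∧ x1 = 141 ∧ x2 = 135 ∧ x3 = 126) ∨ (x0 = 120 ∧ x1 = 159 ∧ x2 = 121 ∧ x3 = 226) := by
  decide +kernel

theorem pr_W {w : Equiv.Perm R8} (hw : w ∈ RS.W) (r s : R8) : pr (w r) (w s) = pr r s := by
  have := RootSys.W_pair (R := RS) hw r s
  rwa [rootSys_pair', rootSys_pair'] at this

theorem fix {w : Equiv.Perm R8} (hw : w ∈ RS.W) (h : ∀ i, w (bs i) = bs i) : w = 1 := by
  refine Equiv.ext fun r => Fin.ext ?_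
  have e : code (w r) = code r := by
    unfold code
    congr 2
    funext n i
    rw [← pr_W hw (bs i) r, h]
  exact (code_idx (w r)).symm.trans (by rw [e]; exact code_idx r)

theorem cg_W {w : Equiv.Perm R8} (hw : w ∈ RS.W) {a : Fin 8 → ℤ}
    (h : (RS.act w fun i => (-1 : K3ˣ) ^ a i) = fun i => (-1 : K3ˣ) ^ a i) {r s : R8} (hc : cg a r s) :
    cg a (w r) (w s) := by
  intro k
  have h1 := (act_sgn a a).1 h k
  have co : ∀ x : R8, (Good.C chevE8).cor (w x) k =
      ∑ j : Fin 8, (Good.C chevE8).cor x j * (Good.C chevE8).cor (w (sm (D := chevE8) j)) k := fun x => by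
    have := congrFun (RootSys.co_W (R := RS) hw x) k
    rw [rootSys_co, cor_eq] at this
    refine this.trans ?_
    change ∑ j : Fin 8, cor (D := chevE8) x j * cor (D := chevE8) (w (sm (D := chevE8) j)) k = _
    exact Finset.sum_congr rfl fun j _ =>
      congrArg₂ (· * ·) (cor_eq (D := chevE8) x j) (cor_eq (D := chevE8) _ k)
  have h2 : (2 : ℤ) ∣ ∑ j : Fin 8, ((Good.C chevE8).cor r j + (Good.C chevE8).cor s j - a j) *
      (Good.C chevE8).cor (w (sm (D := chevE8) j)) k := Finset.dvd_sum fun j _ => (hc j).mul_right _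
  simp only [sub_mul, add_mul, Finset.sum_sub_distrib, Finset.sum_add_distrib] at h2
  rw [← co r, ← co s] at h2
  have h3 := dvd_add h1 h2
  rwa [sub_add_sub_cancel'] at h3

theorem w0_bs : w0 (120 : Fin 240) = (130 : Fin 240) ∧ w0 (159 : Fin 240) = (141 : Fin 240) ∧
    w0 (121 : Fin 240) = (135 : Fin 240) ∧ w0 (226 : Fin 240) = (126 : Fin 240) ∧
    w0 (130 : Fin 240) = (120 : Fin 240) ∧ w0 (141 : Fin 240) = (159 : Fin 240) ∧
    w0 (135 : Fin 240) = (121 : Fin 240) ∧ w0 (126 : Fin 240) = (226 : Fin 240) := by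
  simp only [w0_apply]; decide +kernel

end WStB

open WStB in
/-- x i = w (bs i) ∈ PQ (`PP_of_act`, `mem_PQ`: 24 candidates each), pair (x i) (x j) = pair (bs i) (bs j) (`RootSys.W_pair`), and
modulo 2: co x1 + co x2 ≡ a1, co x2 + co x3 ≡ a2 (`act_sgn`: bs 1, bs 2, bs 3 = sm 1, sm 2, sm 4). A nested search (choose x0,
x1, x2, x3 with the pairings and the two congruences as guards: two solutions, (130,141,135,126) and (120,159,121,226)).
After multiplying by w0 if necessary (w0 preserves PQ, t1, t2, w0² = 1) w fixes bs 0..3; then x4..x7 are positive roots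
orthogonal to bs 0..3, i.e. in D2, with the pairings of a base; to exclude the triality images use the simple root sm 5 =
123 or sm 0 = 162 (2 co(sm 5) is an integral combination of the co (bs i), and w is linear: `RootSys.co_W`), or equally the
congruences co x5 + co x6 ≡ a1, co x6 + co x7 ≡ a2 (co (bs 5) + co (bs 6) ≡ a1, co (bs 6) + co (bs 7) ≡ a2 mod 2, with `co_W` and
a1 ᵥ* coM w ≡ a1). Finally w fixes all bs i, so pair (bs i) (w r) = pair (bs i) r, and a root is determined by these 8 numbers
(`decide +kernel`, e.g. 2 co r = ∑ pair (bs i) r • c i with explicit integral vectors c i). -/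
theorem wstB {w : Equiv.Perm R8} (hw : w ∈ RS.W) (h1 : RS.act w t1 = t1) (h2 : RS.act w t2 = t2)
    (hp : ∀ i, RS.IsPos (w (bs i))) : w = 1 ∨ w = w0 := by
  have hm : ∀ i, w (bs i) ∈ D1 ++ D2 := fun i =>
    List.mem_append.2 ((mem_PQ _).1 ⟨hp i, (PP_of_act hw h1 h2 _).2 (base_PP.mem i)⟩)
  have hq : ∀ i j, pr (w (bs i)) (w (bs j)) = pr (bs i) (bs j) := fun i j => pr_W hw _ _
  have A := search _ (hm 0) _ (hm 1) ((hq 0 1).trans (by decide +kernel)) _ (hm 2)
    ((hq 0 2).trans (by decide +kernel)) ((hq 1 2).trans (by decide +kernel))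
    (cg_W hw h1 (by decide +kernel)) _ (hm 3) ((hq 0 3).trans (by decide +kernel))
    ((hq 1 3).trans (by decide +kernel)) ((hq 2 3).trans (by decide +kernel)) (cg_W hw h2 (by decide +kernel))
  have B := search _ (hm 4) _ (hm 5) ((hq 4 5).trans (by decide +kernel)) _ (hm 6)
    ((hq 4 6).trans (by decide +kernel)) ((hq 5 6).trans (by decide +kernel))
    (cg_W hw h1 (by decide +kernel)) _ (hm 7) ((hq 4 7).trans (by decide +kernel))
    ((hq 5 7).trans (by decide +kernel)) ((hq 6 7).trans (by decide +kernel)) (cg_W hw h2 (by decide +kernel))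
  have ne : w (bs 0) ≠ w (bs 4) := fun e => absurd (w.injective e) (by decide)
  obtain ⟨e0, e1, e2, e3, e4, e5, e6, e7⟩ := w0_bs
  rcases A with ⟨a0, a1, a2, a3⟩ | ⟨a0, a1, a2, a3⟩ <;> rcases B with ⟨b0, b1, b2, b3⟩ | ⟨b0, b1, b2, b3⟩
  · exact absurd (a0.trans b0.symm) ne
  · refine Or.inl (fix hw fun i => ?_)
    fin_cases i
    exacts [a0, a1, a2, a3, b0, b1, b2, b3]
  · have := fix (mul_mem w0_mem hw) fun i => by
      rw [Equiv.Perm.mul_apply]
      fin_cases i
      exacts [(congrArg w0 a0).trans e0, (congrArg w0 a1).trans e1, (congrArg w0 a2).trans e2,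
        (congrArg w0 a3).trans e3, (congrArg w0 b0).trans e4, (congrArg w0 b1).trans e5,
        (congrArg w0 b2).trans e6, (congrArg w0 b3).trans e7]
    refine Or.inr ?_
    rw [← one_mul w, ← w0_mul, mul_assoc, this, mul_one]
  · exact absurd (a0.trans b0.symm) ne

theorem wst {w : Equiv.Perm R8} (hw : w ∈ RS.W) (h1 : RS.act w t1 = t1) (h2 : RS.act w t2 = t2) :
    ∃ v ∈ RS.WS PP, w = v ∨ w = w0 * v := by
  obtain ⟨v, hv, hp⟩ := wstA hw
  have h := wstB (mul_mem hw (RootSys.WS_le_W _ hv)) (by rw [RootSys.act_mul hw, (act_WS hv).1, h1])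
    (by rw [RootSys.act_mul hw, (act_WS hv).2, h2]) hp
  exact ⟨v⁻¹, inv_mem hv, h.imp (fun e => eq_inv_of_mul_eq_one_left e) fun e => eq_mul_inv_of_mul_eq e⟩

end CL.E87
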