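/-
`E₈(3)`, `L₂(7)`: components of the centraliser.
-/
import Cfsg.Agent.KSG.E87.WStB
import Cfsg.Agent.KSG.E87.CompA

set_option autoImplicit false
set_option maxRecDepth 20000
set_option backward.isDefEq.respectTransparency false

namespace CL.E87
open Module Function Finset CL.Chev CL.AltE Cfsg.Lie
open CL.E82 (R8)
open CL.E83 (K3 G3)
open CL.E81 (Γ3 sig psi alg tor8)

/-- `acts_n0`, `w0_PP`; N normalises H -/
theorem n0_conj {g : Γ3} (hg : g ∈ C0) : n0 * g * n0⁻¹ ∈ C0 := by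
  exact CompA.conj_n0 hg

/-- As `R3.normal_of_comm` / `R3.centralizer_torHom` (CHEV/SsCent): g = u m u' (`exists_normal'`), `Good.conj_normal` for t1 and
for t2, `R3.mem_XS_Phi` twice gives u, u' ∈ XS PP, m acts as w fixing t1, t2; `wst`, `exists_acts_of_mem_WS neg_mem_PP` gives
m' ∈ N ⊓ XS PP acting as v, so m ∈ m' H or m ∈ n0 m' H (`Good.inv_mul_mem_H`). -/
theorem comp {g : Γ3} (hg : g ∈ CC) : g ∈ C0 ∨ g * n0⁻¹ ∈ C0 := by
  refine CompA.comp (fun w hw h1 h2 => ?_) hg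
  obtain ⟨v, hv, e | e⟩ := wst hw h1 h2
  · exact .inl (e ▸ hv)
  · right
    have h := RootSys.conj_mem_WS (T := PP) w0_mem (w := v) (by
      rwa [show w0 ⁻¹' PP = PP from Set.ext w0_PP])
    rwa [← e, inv_eq_of_mul_eq_one_right w0_mul] at h

/-- `LangIn.sup (alg.lang_XS ..) (alg.lang_H ..)` for τ = sig and τ = tau (`alg.gf`, `gf_tau`; tau (x r t) = x (w0 r) (c t³));
c n0⁻¹ = x (tau x)⁻¹ means c = x n0 (sig x)⁻¹ -/
theorem lang_CC {c : Γ3} (hc : c ∈ CC) : ∃ x ∈ CC, c = x * (sig x)⁻¹ ∨ c = x * n0 * (sig x)⁻¹ := by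
  have s : ∀ a : Fin 8 → ℤ, sig (tor8 fun i => (-1) ^ a i) = tor8 fun i => (-1) ^ a i := fun a => by
    refine (alg.map_torHom _).trans (congrArg _ (funext fun i => ?_))
    rw [Pi.pow_apply, ← zpow_natCast, ← zpow_mul, mul_comm, zpow_mul]
    norm_num
  have t : ∀ a : Fin 8 → ℤ, n0 * (tor8 fun i => (-1) ^ a i) * n0⁻¹ = (tor8 fun i => (-1) ^ a i) →
      tau (tor8 fun i => (-1) ^ a i) = tor8 fun i => (-1) ^ a i := fun a h => by
    rw [tau, twE_apply, s, h]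
  rcases comp hc with h | h
  · obtain ⟨x, hx, e⟩ := CompA.lang_C0 alg.gf (s a1) (s a2) _ h
    exact ⟨x, C0_le hx, .inl e⟩
  · obtain ⟨x, hx, e⟩ := CompA.lang_C0 gf_tau (t a1 (mem_CC.1 n0_CC).1) (t a2 (mem_CC.1 n0_CC).2) _ h
    refine ⟨x, C0_le hx, .inr ?_⟩
    rw [tau, twE_apply, mul_inv_eq_iff_eq_mul] at e
    rw [e]; group

end CL.E87
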