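/-
`E₈(3)`, `L₂(7)`: extension of scalars, the invariant form.
-/
import Cfsg.Agent.KSG.E87.Alg
import Cfsg.Agent.KSG.E81.Form
import Cfsg.Agent.KSG.E81.Irr

set_option autoImplicit false
set_option maxRecDepth 20000
set_option backward.isDefEq.respectTransparency false

namespace CL.E87
open Module Function Finset CL.Chev CL.AltE Cfsg.Lie
open CL.E82 (R8)
open CL.E83 (K3 G3)
open CL.E81 (Γ3 sig psi alg tor8)

/-- extension of scalars -/
noncomputable def io (v : VV) : E81.V3 := fun i => algebraMap k3 K3 (v i)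

namespace Ext

theorem rho_eq (g : G3) : E81.rho g = toEnd _ K3 ((adj chevE8 k3 g).map (algebraMap k3 K3)) := by
  have := (stG chevE8 k3).hom_ext_x stG_top (f := E81.rho.toHomUnits)
    (f' := ((toEnd _ K3).comp ((algebraMap k3 K3).mapMatrix.toMonoidHom.comp (adj chevE8 k3))).toHomUnits)
    fun r t => Units.ext (LinearMap.ext fun v => by
      rw [MonoidHom.coe_toHomUnits, E81.rho_apply, E81.psi_x, E81.rG_x, ← xR_map]; rfl)
  exact congrArg (fun f : G3 →* (End K3 E81.V3)ˣ => (f g : End K3 E81.V3)) this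

theorem io_inj {u v : VV} (h : io u = io v) : u = v :=
  funext fun i => (algebraMap k3 K3).injective (congrFun h i)

/-- coordinates -/
noncomputable def pr (i : chevE8.Idx) : VV →ₗ[k3] k3 := LinearMap.proj i

/-- the form over the prime field -/
noncomputable def BB : VV →ₗ[k3] VV →ₗ[k3] k3 :=
  ∑ r : R8, (pr (Sum.inr r)).smulRight (pr (Sum.inr (ng r))) +
    ∑ i : Fin 8, (pr (Sum.inl i)).smulRight (∑ j : Fin 8, (A (sm (D := chevE8) j) (sm i) : k3) • pr (Sum.inl j))

theorem BB_eq (u v : VV) : algebraMap k3 K3 (BB u v) = E81.kap (io u) (io v) := by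
  rw [E81.FormX.kap_apply]
  simp only [E81.FormX.lamL_apply, BB, pr, io, LinearMap.add_apply, LinearMap.sum_apply, LinearMap.smulRight_apply,
    LinearMap.smul_apply, LinearMap.proj_apply, smul_eq_mul, map_add, map_sum, map_mul, map_intCast]

theorem io_single (i : chevE8.Idx) : io (Pi.single i 1) = Pi.single i 1 := by
  funext j
  by_cases h : j = i
  · subst h; simp [io]
  · simp [io, h]

end Ext

/-- the matrices agree: induction over the generators `(stG chevE8 k3).x r t` of G3 (`stG_top`), `E81.psi_x`, `E81.rG_x`,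
`xR` commutes with `Matrix.map (algebraMap ..)` (look at `CL.E82.Irr.rho_eq`, `E81.LA.Fr_map`, `dg "xR_map"`) -/
theorem mat_eq (g : G3) : adj chevE8 K3 (thetaS chevE8 K3 (psi g)) = (adj chevE8 k3 g).map (algebraMap k3 K3) := by
  exact toEnd_injective (Ext.rho_eq g)

theorem io_r3 (g : G3) (v : VV) : io (r3 g v) = E81.rho g (io v) := by
  rw [Ext.rho_eq, toEnd_apply]
  funext i
  exact RingHom.map_mulVec (algebraMap k3 K3) (adj chevE8 k3 g) v i

theorem finrank_VV : finrank k3 VV = 248 := by
  rw [finrank_fintype_fun_eq_card]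
  change Fintype.card (Fin 8 ⊕ Fin 240) = 248
  simp

/-- the K3-span of `io v` is invariant, so ⊥ or ⊤ (`E81.irr`), and its dimension is ≤ 1 < 248 (`E81.finrank_V3`) -/
theorem nofix (v : VV) (h : ∀ g, r3 g v = v) : v = 0 := by
  have h1 : ∀ g, E81.rho g (io v) = io v := fun g => by rw [← io_r3, h]
  rcases E81.irr (K3 ∙ io v) (fun g u hu => by
    obtain ⟨c, rfl⟩ := Submodule.mem_span_singleton.1 hu
    rw [map_smul, h1]
    exact hu) with e | e
  · refine Ext.io_inj ((Submodule.span_singleton_eq_bot.1 e).trans ?_)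
    funext i
    exact (map_zero (algebraMap k3 K3)).symm
  · have h2 := finrank_span_le_card (R := K3) ({io v} : Set E81.V3)
    rw [e, finrank_top, E81.finrank_V3, Set.toFinset_singleton, card_singleton] at h2
    omega

/-- B = the formula of `E81.kap` (`E81.FormX.kap_apply`) over k3, so algebraMap (B u v) = kap (io u) (io v); `kap_symm`,
`kap_rho`; nondegenerate: if B u (Pi.single i 1) = 0 for all i then kap (io u) kills the basis `Pi.single i 1` of V3, `kap_nd` -/
theorem exists_form : ∃ B : LinearMap.BilinForm k3 VV, (∀ x y, B x y = B y x) ∧ (∀ x, (∀ y, B x y = 0) → x = 0) ∧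
    ∀ g x y, B (r3 g x) (r3 g y) = B x y := by
  refine ⟨Ext.BB, fun x y => (algebraMap k3 K3).injective ?_, fun x hx => ?_,
    fun g x y => (algebraMap k3 K3).injective ?_⟩
  · rw [Ext.BB_eq, Ext.BB_eq, E81.kap_symm]
  · refine Ext.io_inj ((E81.kap_nd fun w => ?_).trans ?_)
    · have e : E81.kap (io x) = 0 := (Pi.basisFun K3 chevE8.Idx).ext fun i => by
        rw [Pi.basisFun_apply, ← Ext.io_single, ← Ext.BB_eq, hx, map_zero, LinearMap.zero_apply]
      rw [e, LinearMap.zero_apply]
    · funext i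
      exact (map_zero (algebraMap k3 K3)).symm
  · rw [Ext.BB_eq, Ext.BB_eq, io_r3, io_r3, E81.kap_rho]

end CL.E87
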