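/-
`E₈(3)`, `L₂(7)`: dimensions of fixed spaces.
-/
import Cfsg.Agent.KSG.E87.Ext
import Cfsg.Agent.KSG.E81.Kac
import Cfsg.Agent.KSG.E83.Dat

set_option autoImplicit false
set_option maxRecDepth 20000
set_option backward.isDefEq.respectTransparency false

namespace CL.E87
open Module Function Finset CL.Chev CL.AltE Cfsg.Lie
open CL.E82 (R8)
open CL.E83 (K3 G3)
open CL.E81 (Γ3 sig psi alg tor8)

theorem Link.rank_map {K L ι : Type*} [Field K] [Field L] [Fintype ι] [DecidableEq ι] (f : K →+* L)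
    (A : Matrix ι ι K) : (A.map f).rank = A.rank := by
  classical
  obtain ⟨P, Q, D, rfl⟩ := Matrix.Pivot.exists_list_transvec_mul_diagonal_mul_list_transvec A
  have h := fun P : List (Matrix.TransvectionStruct ι K) =>
    Matrix.TransvectionStruct.det_toMatrix_prod P
  have h' := fun P : List (Matrix.TransvectionStruct ι K) =>
    (f.map_det _).symm.trans ((congrArg f (h P)).trans f.map_one)
  rw [Matrix.map_mul, Matrix.map_mul, Matrix.diagonal_map f.map_zero,
    Matrix.rank_mul_eq_left_of_det_ne_zero _ _ ((h _).trans_ne one_ne_zero),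
    Matrix.rank_mul_eq_right_of_det_ne_zero _ _ ((h _).trans_ne one_ne_zero),
    Matrix.rank_mul_eq_left_of_det_ne_zero _ _ (by exact (h' _).trans_ne one_ne_zero),
    Matrix.rank_mul_eq_right_of_det_ne_zero _ _ (by exact (h' _).trans_ne one_ne_zero),
    Matrix.rank_diagonal, Matrix.rank_diagonal]
  simp

theorem Link.rk {K ι : Type*} [Field K] [Fintype ι] [DecidableEq ι] (A : Matrix ι ι K) :
    (A - 1).rank + finrank K ((toEnd ι K A).eigenspace 1) = Fintype.card ι := by
  have h := LinearMap.finrank_range_add_finrank_ker (A - 1).mulVecLin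
  have e : LinearMap.ker (A - 1).mulVecLin = (toEnd ι K A).eigenspace 1 := by
    ext v
    rw [LinearMap.mem_ker, End.mem_eigenspace_iff, toEnd_apply, Matrix.mulVecLin_apply, Matrix.sub_mulVec,
      Matrix.one_mulVec, sub_eq_zero, one_smul]
  rw [e, finrank_fintype_fun_eq_card] at h
  exact h

theorem Link.fx_map {K L ι : Type*} [Field K] [Field L] [Fintype ι] [DecidableEq ι] (f : K →+* L) (A : Matrix ι ι K) :
    finrank K ((toEnd ι K A).eigenspace 1) = finrank L ((toEnd ι L (A.map f)).eigenspace 1) := by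
  have h1 := Link.rk A
  have h2 := Link.rk (A.map f)
  have h3 := Link.rank_map f (A - 1)
  rw [Matrix.map_sub _ (map_sub f), Matrix.map_one _ f.map_zero f.map_one] at h3
  omega

/-- eigenspace 1 = ker (toLin' (M - 1)), rank-nullity and invariance of the rank of a matrix under a field embedding
(`Cfsg.Agent.S4443.rank_map` or `dg "rank_map"`, Mathlib `Matrix.rank_map`?), with `mat_eq` -/
theorem fx_eq (g : G3) : fx (r3 g) = finrank K3 ((E81.rho g).eigenspace 1) := by
  have h := Link.fx_map (algebraMap k3 K3) (adj chevE8 k3 g)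
  rw [← mat_eq g] at h
  exact h

/-- copy the proof of `E81.IsCls.dim` (`finrank_conj`, `E82.Cls.fr`, `E82.Lie0.gen`) -/
theorem link {g : G3} {y : Γ3} {t : Fin 8 → K3ˣ} (e : y * psi g * y⁻¹ = tor8 t) : fx (r3 g) = 8 + (RS.Phi t).ncard := by
  classical
  rw [fx_eq, E81.rho_apply, finrank_conj E81.rG (isConj_iff.2 ⟨y, e⟩)]
  refine (E82.Cls.fr (α := Fin 8) (β := R8) (E82.Lie0.gen (D := chevE8) alg.r3 t) _ True (by simp)
    (fun r => r ∈ RS.Phi t) fun r => ?_).trans ?_
  · exact Units.val_eq_one.symm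
  · rw [if_pos trivial, Fintype.card_fin, add_comm, ← Set.ncard_coe_finset]
    congr 2
    ext r
    simp

/-- `E81.exists_kac` (z from `E83.exists_unit`), then y (psi g)^j y⁻¹ = tor8 (t^j) and `link` -/
theorem kac {n : ℕ} (hn : ¬ 3 ∣ n) {g : G3} (hg : orderOf g = n) : ∃ c : Fin 8 → ℕ, ∑ j, th8 j * c j ≤ n ∧
    ∀ j : ℕ, fx (r3 (g ^ j)) = 8 + #{r : R8 | (n : ℤ) ∣ j * E82.val c r} := by
  obtain ⟨z, -, hz⟩ := E83.exists_unit n hn
  obtain ⟨c, ⟨y, t, e, hc⟩, h2, -⟩ := E81.exists_kac hn hz hg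
  refine ⟨c, h2, fun j => ?_⟩
  have e' : y * psi (g ^ j) * y⁻¹ = tor8 (t ^ j) := by rw [map_pow, map_pow, ← e, conj_pow]
  rw [link e', ← Set.ncard_coe_finset]
  congr 2
  ext r
  have : uchr (t ^ j) (RS.wt r) = z ^ ((j : ℤ) * E82.val c r) := by
    rw [mul_comm, zpow_mul, ← hc r, zpow_natCast, uchr_pow]
  simp only [coe_filter, mem_univ, true_and, Set.mem_setOf_eq]
  rw [← hz, orderOf_dvd_iff_zpow_eq_one, ← this]
  rfl

end CL.E87
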