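/-
`E₈(3)`, `L₂(7)`: involutions.
-/
import Cfsg.Agent.KSG.E87.Link

set_option autoImplicit false
set_option maxRecDepth 20000
set_option backward.isDefEq.respectTransparency false

namespace CL.E87
open Module Function Finset CL.Chev CL.AltE Cfsg.Lie
open CL.E82 (R8)
open CL.E83 (K3 G3)
open CL.E81 (Γ3 sig psi alg tor8)

theorem Dim2.cc {G : Type*} [Group G] {x y : G} (h : IsConj x y) :
    Nat.card (Subgroup.centralizer {x}) = Nat.card (Subgroup.centralizer {y}) := by
  obtain ⟨c, rfl⟩ := isConj_iff.1 h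
  exact Nat.card_congr (Equiv.subtypeEquiv (MulAut.conj c).toEquiv fun a => by
    simp [Subgroup.mem_centralizer_singleton_iff, mul_assoc]
    simp [← mul_assoc])

theorem Dim2.nc (c : Fin 8 → ℤ) : {r : R8 | ((2 : ℕ) : ℤ) ∣ c ⬝ᵥ RS.rt r}.ncard = #{r : R8 | (2 : ℤ) ∣ c ⬝ᵥ RS.rt r} := by
  rw [← Set.ncard_coe_finset]
  congr 1
  ext r
  simp

/-- `StData.Alg.exists_involutions` (CHEV/SsInv; `matHom_bijective_E8`, θ = 239, `two_ne_zero_of_odd`): g is conjugate to
g k, k = 0 or 7 (th8 k = 2). `card_centralizer_E8a` / `E8b` give ncard (pos ∩ Phi) = 56 / 64, so ncard Phi = 112 / 128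
(neg is a bijection pos ∩ Phi → Phi minus pos; or `RootSys.Phi_of_matHom` and `decide +kernel`), `link` with y = 1,
`fx_conj`-like invariance, `card_centralizer_eq`; centralisers of conjugate elements have the same order. See the landed
users: `grep -rn exists_involutions Cfsg/Agent`. -/
theorem dim2 {g : G3} (h2 : g * g = 1) (h1 : g ≠ 1) : fx (r3 g) = 120 ∨
    (fx (r3 g) = 136 ∧ 16 * 3 ^ 136 < 26 * Nat.card (Subgroup.centralizer {g})) := by
  have h3 : (2 : K3) ≠ 0 := two_ne_zero_of_odd (F := ZMod 3) (by rw [ZMod.card]; decide)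
  have ho := orderOf_neg_one_units h3
  obtain ⟨s, t, h4, h5⟩ := alg.exists_involutions E81.psi_inj E81.psi_range h3 matHom_bijective_E8
    (θ := (239 : Fin 240)) (by decide +kernel)
  have h6 : ∀ k : Fin 8, RS.rt (239 : Fin 240) k = 2 → k = 0 ∨ k = 7 := by decide +kernel
  obtain ⟨k, c1, c2⟩ := h5 g (orderOf_eq_prime (by rwa [sq]) h1)
  obtain ⟨c, hc⟩ := isConj_iff.1 c2
  have e : fx (r3 g) = 8 + #{r : R8 | (2 : ℤ) ∣ (Pi.single k 1 : Fin 8 → ℤ) ⬝ᵥ RS.rt r} := by
    rw [link (y := psi c) (t := t k) (by rw [← map_inv, ← map_mul, ← map_mul, hc]; exact (h4 k).1),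
      RootSys.Phi_of_matHom (h4 k).2.2, ho, Dim2.nc]
  rcases h6 k c1 with rfl | rfl
  · exact Or.inl (e.trans (by decide +kernel))
  · refine Or.inr ⟨e.trans (by decide +kernel), ?_⟩
    rw [Dim2.cc c2, card_centralizer_eq E81.psi_inj E81.psi_range, (h4 _).1,
      (card_centralizer_E8b alg ho (h4 (7 : Fin 8)).2.2).2]
    decide +kernel

end CL.E87
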