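/-
`E₈(3)`, `L₂(7)`: the Kac points of order 7 conjugate to their cubes.
-/
import Cfsg.Agent.KSG.E81.EnC
import Cfsg.Agent.KSG.E81.Kac
import Cfsg.Agent.KSG.E83.Dat

set_option autoImplicit false
set_option maxRecDepth 100000
set_option exponentiation.threshold 4096
set_option backward.isDefEq.respectTransparency false

namespace CL.E87.X7
open Module Finset CL.Chev CL.AltE Cfsg.Lie
open CL.E82 (val R8)
open CL.E83 (K3 G3)
open CL.E82.En (tabOK fin fin_spec code_inj)
open CL.E81.En
open CL.E81 (IsCls mu rho exists_kac)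

/-- the codes of the surviving points -/
def L : List ℕ := [64 ^ 6 + 64 ^ 7, 1 + 64 ^ 5]
/-- the final test -/
def P := fin 7 7 L

theorem tab : tabOK 7 1 0 = true := by decide +kernel
theorem pw : PW 3 7 := by unfold PW; decide +kernel
theorem r0 : rng 3 7 1 0 P 0 176 = true := by decide +kernel

theorem raw (c : Fin 8 → ℕ) (hc : ∑ j, th8 j * c j ≤ 7) (w : Equiv.Perm R8) (hw : w ∈ (rootSys chevE8).W)
    (h : ∀ r, 3 * val c (w r) ≡ val c r [ZMOD 7]) (hp : ¬ ∀ i, 7 ∣ c i) :
    c = ![0, 0, 0, 0, 0, 0, 1, 1] ∨ c = ![1, 0, 0, 0, 0, 1, 0, 0] := by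
  have := fin_spec (main (e := 3) (n := 7) (m := 1) (P := P) (by norm_num) (by norm_num) (fun x _ => one_dvd x) pw tab
    (fun p hp => Or.inr (rng_spec r0 (by omega) (by omega))) c (by norm_num) hc w hw h) hp hp
  simp only [L, List.mem_cons, List.not_mem_nil, or_false] at this
  exact this.imp (fun e => code_inj (hc.trans (by norm_num)) (by decide) (e.trans (by decide)))
    fun e => code_inj (hc.trans (by norm_num)) (by decide) (e.trans (by decide))

theorem cls {z : K3ˣ} (hz : orderOf z = 7) {g : G3} (hg : orderOf g = 7) :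
    IsCls z ![0, 0, 0, 0, 0, 0, 1, 1] g ∨ IsCls z ![1, 0, 0, 0, 0, 1, 0, 0] g := by
  obtain ⟨c, h1, h2, ⟨w, hw, h3⟩, h4⟩ := exists_kac (by norm_num) hz hg
  rcases raw c h2 w hw h3 (h4 7 (by norm_num) dvd_rfl) with e | e
  · exact Or.inl (e ▸ h1)
  · exact Or.inr (e ▸ h1)

theorem dim {g : G3} (hg : orderOf g = 7) :
    finrank K3 ((rho g).eigenspace 1) = 80 ∨ finrank K3 ((rho g).eigenspace 1) = 38 := by
  obtain ⟨z, -, hz⟩ := E83.exists_unit 7 (by norm_num)
  refine (cls hz hg).imp (fun h => ?_) fun h => ?_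
  · have := h.dim hz 0
    rw [pow_zero] at this
    exact this.trans (by decide +kernel)
  · have := h.dim hz 0
    rw [pow_zero] at this
    exact this.trans (by decide +kernel)

end CL.E87.X7
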