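/-
`E₈(3)`, `L₂(7)`: elements of order four and seven.
-/
import Cfsg.Agent.KSG.E87.Link
import Cfsg.Agent.KSG.E87.Four
import Cfsg.Agent.KSG.E87.X7

set_option autoImplicit false
set_option maxRecDepth 20000
set_option backward.isDefEq.respectTransparency false

namespace CL.E87
open Module Function Finset CL.Chev CL.AltE Cfsg.Lie
open CL.E82 (R8)
open CL.E83 (K3 G3)
open CL.E81 (Γ3 sig psi alg tor8)

/-- the test at a Kac point of order four -/
def Dim4.P (c : Fin 8 → ℕ) : Prop := 52 ≤ #{r : R8 | ((4 : ℕ) : ℤ) ∣ (1 : ℕ) * E82.val c r} ∧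
  (#{r : R8 | ((4 : ℕ) : ℤ) ∣ (2 : ℕ) * E82.val c r} = 128 → 58 ≤ #{r : R8 | ((4 : ℕ) : ℤ) ∣ (1 : ℕ) * E82.val c r})

instance : DecidablePred Dim4.P := fun _ => by unfold Dim4.P; infer_instance

set_option synthInstance.maxSize 2000 in
set_option synthInstance.maxHeartbeats 200000 in
theorem Dim4.all : ∀ a < 3, ∀ b < 2, ∀ c < 2, ∀ d < 2, ∀ e < 2, ∀ f < 3,
    2 * a + 3 * b + 4 * c + 4 * d + 3 * e + 2 * f ≤ 4 → Dim4.P ![a, b, c, 0, 0, d, e, f] := by decide +kernel

/-- `kac` with n = 4, j = 1, 2: there are 10 points c with ∑ th8 j * c j ≤ 4; the pairs (fx g, fx g²) are (60,120), (64,120),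
(66,136), (70,136), (82,136), (92,120), (120,248), (134,136), (136,248), (248,248). Bound each c j (c j ≤ 2), replace c by
![c 0, …, c 7] and use nested bounded quantifiers with the partial sums as guards, `decide +kernel`
(`co r i = (Good.C chevE8).co r i`). -/
theorem dim4 {g : G3} (h4 : g ^ 4 = 1) (h2 : g ^ 2 ≠ 1) :
    60 ≤ fx (r3 g) ∧ (fx (r3 (g ^ 2)) = 136 → 66 ≤ fx (r3 g)) := by
  obtain ⟨c, hc, h⟩ := kac (n := 4) (by norm_num) (orderOf_eq_prime_pow (p := 2) (n := 1) h2 h4)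
  simp only [Fin.sum_univ_eight, th8, Matrix.cons_val_zero, Matrix.cons_val_one, Matrix.cons_val] at hc
  have e : c = ![c 0, c 1, c 2, 0, 0, c 5, c 6, c 7] := by
    funext i
    fin_cases i <;> simp <;> omega
  have := Dim4.all (c 0) (by omega) (c 1) (by omega) (c 2) (by omega) (c 5) (by omega) (c 6) (by omega) (c 7) (by omega)
    (by omega)
  rw [← e] at this
  have h1 := h 1
  rw [pow_one] at h1
  rw [h1, h 2]
  exact ⟨by have := this.1; omega, fun h => by have := this.2 (by omega); omega⟩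

/-- `kac` with n = 7, j = 1: 39 points, the minimum is 36; and fx ≡ 248 ≡ 2 mod 6 (`six`, `finrank_VV`) -/
theorem dim7 {g : G3} (h7 : g ^ 7 = 1) (h1 : g ≠ 1) : 38 ≤ fx (r3 g) := by
  have : Fact (Nat.Prime 7) := ⟨by norm_num⟩
  rw [fx_eq]
  rcases X7.dim (orderOf_eq_prime h7 h1) with e | e <;> omega

end CL.E87
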