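/-
`E₈(3)`, `L₂(7)`: commuting involutions lie in a torus.
-/
import Cfsg.Agent.KSG.E87.Alg

set_option autoImplicit false
set_option maxRecDepth 20000
set_option backward.isDefEq.respectTransparency false

namespace CL.Chev.StData.Alg

variable {ι κ : Type*} [Fintype κ] [DecidableEq κ] {R : RootSys ι κ} {K Γ : Type*} [Field K] [Group Γ]
  {S : StData R K Γ} {φ : K →+* K} {q : ℕ} {σ : Monoid.End Γ} [Finite ι] [IsAlgClosed K] (A : S.Alg φ q σ)
include A

/-- an `r`-subgroup of the Borel subgroup generated by two elements is conjugate into the diagonal subgroup -/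
theorem pair_conj_H {r : ℕ} [Fact r.Prime] (hK : (r : K) ≠ 0) {a b : Γ} (ha : a ∈ S.B) (hb : b ∈ S.B)
    (hE : IsPGroup r (Subgroup.closure {a, b})) : ∃ g, g * a * g⁻¹ ∈ S.H ∧ g * b * g⁻¹ ∈ S.H := by
  obtain ⟨N, hN, h1, h1'⟩ := A.exists_fixed₂ a b
  have A' := A.pow hN
  have h2 := A'.card_fix_XS (T := {r | R.IsPos r}) (fun _ h => h) R.closed_pos
  have := A'.finite_fixS
  have hF : Subgroup.closure {a, b} ≤ fixS (σ ^ N) :=
    (Subgroup.closure_le _).2 (Set.insert_subset_iff.2 ⟨h1, Set.singleton_subset_iff.2 h1'⟩)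
  have hB : Subgroup.closure {a, b} ≤ S.B :=
    (Subgroup.closure_le _).2 (Set.insert_subset_iff.2 ⟨ha, Set.singleton_subset_iff.2 hb⟩)
  have : Finite ↥(S.U ⊓ fixS (σ ^ N)) := Finite.of_injective _ (Subgroup.inclusion_injective inf_le_right)
  have : Finite (Subgroup.closure {a, b}) := Finite.of_injective _ (Subgroup.inclusion_injective hF)
  have := hE.isNilpotent
  obtain ⟨k, hk⟩ := hE.exists_card_eq
  refine Exists.elim (CL.coprime_exists_conj_mem (Subgroup.closure {a, b}) (S.U ⊓ fixS (σ ^ N)) S.H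
    (fun x hx => Subgroup.inf_normalizer_le_normalizer_inf ⟨S.B_le_normalizer_U (hB hx), Subgroup.le_normalizer (hF hx)⟩)
    (by rw [hk, U, h2]; exact ((A'.frob.coprime hK).pow_right _).pow_left _) (Or.inl inferInstance) fun x hx => ?_)
    fun k h => ⟨k⁻¹, by simpa using h.2 a (Subgroup.subset_closure (by simp)),
      by simpa using h.2 b (Subgroup.subset_closure (by simp))⟩
  have e : (σ ^ N) x = x := hF hx
  obtain ⟨u, hu, t, ht, rfl⟩ := S.mem_B_iff.1 (hB hx)
  have h3 : u⁻¹ * (σ ^ N) u = t * ((σ ^ N) t)⁻¹ := by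
    rw [inv_mul_eq_iff_eq_mul, ← mul_assoc, ← e, map_mul, mul_inv_cancel_right]
  have h4 : u⁻¹ * (σ ^ N) u ∈ S.U ⊓ S.H := Subgroup.mem_inf.2 ⟨mul_mem (inv_mem hu) (A'.fieldEnd.mem_XS hu),
    h3 ▸ mul_mem ht (inv_mem (A'.fieldEnd.mem_H ht))⟩
  rw [A.good.U_inf_H, Subgroup.mem_bot] at h4
  exact ⟨u, ⟨hu, (inv_mul_eq_one.1 h4).symm⟩, t, ht, rfl⟩

/-- two commuting involutions are conjugate into the diagonal subgroup -/
theorem pair_torus (hK : (2 : K) ≠ 0) {a b : Γ} (ha : a * a = 1) (hb : b * b = 1) (hab : a * b = b * a) :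
    ∃ y s1 s2, y * a * y⁻¹ = A.r3.torHom s1 ∧ y * b * y⁻¹ = A.r3.torHom s2 := by
  have hK' : ((2 : ℕ) : K) ≠ 0 := by exact_mod_cast hK
  obtain ⟨g, hg⟩ := A.exists_conj_H (s := a) (by
    obtain ⟨c, hc⟩ := orderOf_dvd_of_pow_eq_one (show a ^ 2 = 1 by rw [sq, ha])
    exact fun h => hK' (by rw [hc, Nat.cast_mul, h, zero_mul]))
  obtain ⟨t, ht⟩ := A.r3.range_torHom ▸ hg
  obtain ⟨x, h1, h2⟩ := A.exists_flag Nat.prime_two hK' (t := t) (s := g * b * g⁻¹) (a := 1)
    (Subgroup.mem_centralizer_singleton_iff.2 (by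
      rw [ht, show g * b * g⁻¹ * (g * a * g⁻¹) = g * (b * a) * g⁻¹ by group, ← hab]; group))
    (by rw [pow_one, conj_pow, sq, hb]; simp)
  obtain ⟨y, rfl⟩ := QuotientGroup.mk_surjective x
  rw [ht] at h1
  have e1 : y⁻¹ * g * a * (y⁻¹ * g)⁻¹ ∈ S.B := by
    convert QuotientGroup.eq.1 h1.symm using 1; simp only [smul_eq_mul]; group
  have e2 : y⁻¹ * g * b * (y⁻¹ * g)⁻¹ ∈ S.B := by
    convert QuotientGroup.eq.1 h2.symm using 1; simp only [smul_eq_mul]; group
  generalize y⁻¹ * g = z at e1 e2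
  have ha' : z * a * z⁻¹ * (z * a * z⁻¹) = 1 := by rw [conj_mul, ha]; simp
  have hb' : z * b * z⁻¹ * (z * b * z⁻¹) = 1 := by rw [conj_mul, hb]; simp
  have hab' : Commute (z * a * z⁻¹) (z * b * z⁻¹) := by rw [Commute, SemiconjBy, conj_mul, conj_mul, hab]
  obtain ⟨k, k1, k2⟩ := A.pair_conj_H (r := 2) hK' e1 e2 fun x => ⟨1, Subtype.ext (by
    obtain ⟨x, hx⟩ := x
    change x ^ 2 ^ 1 = 1
    rw [pow_one, sq]
    induction hx using Subgroup.closure_induction with
    | mem x hx => rcases hx with rfl | rfl <;> assumption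
    | one => simp
    | mul u v hu hv h1 h2 =>
      have : Commute u v := by
        refine Subgroup.closure_induction₂ (p := fun u v _ _ => Commute u v) ?_ (by simp) (by simp)
          (fun _ _ _ _ _ _ => Commute.mul_left) (fun _ _ _ _ _ _ => Commute.mul_right)
          (fun _ _ _ _ => Commute.inv_left) (fun _ _ _ _ => Commute.inv_right) hu hv
        rintro _ _ (rfl | rfl) (rfl | rfl)
        exacts [Commute.refl _, hab', hab'.symm, Commute.refl _]
      rw [mul_assoc, ← mul_assoc v, ← this.eq, mul_assoc, h2, mul_one, h1]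
    | inv u hu h1 => rw [← mul_inv_rev, h1, inv_one])⟩
  obtain ⟨s1, hs1⟩ := A.r3.range_torHom ▸ k1
  obtain ⟨s2, hs2⟩ := A.r3.range_torHom ▸ k2
  exact ⟨k * z, s1, s2, by rw [hs1]; group, by rw [hs2]; group⟩

end CL.Chev.StData.Alg

namespace CL.E87
open Module Function Finset CL.Chev CL.AltE Cfsg.Lie
open CL.E82 (R8)
open CL.E83 (K3 G3)
open CL.E81 (Γ3 sig psi alg tor8)

/-- `alg.exists_conj_H`: g a g⁻¹ = tor8 t. `alg.exists_flag` (r = 2) gives a flag x = y B fixed by tor8 t and g b g⁻¹, so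
a', b' (conjugates by y⁻¹ g) lie in B. Then repeat the proof of `exists_conj_H_of_mem_B` (CHEV/SsConj) with
`Subgroup.closure {a', b'}` (its elements are 1, a', b', a' b', a 2-group: `IsPGroup 2`, so the order is coprime to 3^k; it
is commutative, or use the solvability of the 3-group) in place of `zpowers s`: `exists_fixed₂`, `CL.coprime_exists_conj_mem`. -/
theorem pairA {a b : Γ3} (ha : a * a = 1) (hb : b * b = 1) (hab : a * b = b * a) :
    ∃ y s1 s2, y * a * y⁻¹ = tor8 s1 ∧ y * b * y⁻¹ = tor8 s2 := by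
  exact alg.pair_torus (two_ne_zero_of_odd (F := ZMod 3) (by rw [ZMod.card]; decide)) ha hb hab

end CL.E87
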