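/-
`E₈(3)`, `L₂(7)`: pure four-groups are conjugate (certificates on bit masks).
-/
import Cfsg.Agent.KSG.E87.Rts

set_option autoImplicit false
set_option maxRecDepth 20000
set_option backward.isDefEq.respectTransparency false

namespace CL.E87.PairBx
open Module Function Finset CL.Chev CL.AltE Cfsg.Lie CL.E87
open CL.E82 (R8)
open CL.E83 (K3 G3)
open CL.E81 (Γ3 sig psi alg tor8)

/-- the bits of a mask -/
def bit (m : ℕ) (i : Fin 8) : ℤ := if m.testBit i then 1 else 0
/-- the sign vector of a mask -/
noncomputable def sg (m : ℕ) : Fin 8 → K3ˣ := fun i => (-1) ^ bit m i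
/-- the neighbours in the diagram -/
def nb (i : ℕ) : ℕ := [4, 8, 9, 22, 40, 80, 160, 64].getD i 0
/-- the parity of a mask, up to multiples of two -/
def par (x : ℕ) : ℕ := x + x / 2 + x / 4 + x / 8 + x / 16 + x / 32 + x / 64 + x / 128
/-- a simple reflection on masks -/
def rf (i m : ℕ) : ℕ := m ^^^ (par (m &&& nb i) % 2 * 2 ^ i)
/-- a coded word on masks -/
def wd : ℕ → ℕ → ℕ → ℕ
  | 0, _, m => m
  | f + 1, c, m => if c ≤ 1 then m else wd f (c / 8) (rf (c % 8) m)
/-- the matrix of a simple reflection -/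
def mt (i j k : Fin 8) : ℤ := (if j = k then 1 else 0) + if k = i then (if j = i then -2 else bit (nb i) j) else 0
/-- first stage -/
def T1 : List ℕ := [
  1, 1, 329299, 66, 80, 10, 1, 8, 5146, 4249, 41162, 531, 643, 83, 5145, 665, 329379, 271971, 292026917688549, 340762,
  17406160, 2175770, 329315, 42595, 41172, 33996, 329300, 4252, 5148, 668, 41164, 5324, 21080300, 17406188,
  4562920588883, 21808812, 1113994284, 139249324, 21076204, 2726124, 71295634202, 1395763993, 570365073610, 174470499,
  8911954275, 1113994595, 71295634201, 8911956761, 2635037, 2175773, 36503364711068, 2726101, 139249285, 17406165,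
  2634525, 340765, 329381, 271973, 2634405, 34021, 41189, 5349, 329317, 42597, 1349139253, 1113996085, 292026917688565,
  1395764021, 71295634229, 8911956789, 1348877109, 174471989, 4562920588981, 89328895605, 36503364711093, 11166111989,
  570365073653, 71295654133, 4562920588917, 570365232757, 292026917694819, 5717049318755, 25143848810161094571407735,
  292026999171866, 365891156400336, 45736394550042, 292026917690723, 36503374896483, 36503364711852, 714631164844,
  292026917688748, 89328895916, 4562920589228, 570365233068, 36503364711340, 4562921862060, 168642406, 139249510,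
  36503364711070, 174470502, 8911954278, 1113994598, 168609638, 21808998, 570365073622, 11166111950, 4562920588886,
  1395763998, 71295634206, 8911956766, 570365073614, 71295654094, 21080302, 17406190, 292026917688550, 21808814,
  1113994286, 139249326, 21076206, 2726126, 2635054, 2175790, 21075246, 272174, 329518, 42798, 2634542, 340782,
  86344912254, 71295749502, 18689722732068222, 89328897406, 4562920590718, 570365234558, 86328135038, 11166207358,
  292026917694846, 5717049318782, 2336215341510014, 714631167358, 36503364713854, 4562921864574, 292026917690750,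
  36503374896510, 18689722732468478, 365891156400382, 392872637658767102678245, 18689727946999486, 23417034009621566,
  2927129251202750, 18689722732206334, 2336215993374974, 2336215341558590, 45736394550078, 18689722732079934,
  5717049338686, 292026917710654, 36503374916414, 2336215341525822, 292026999171902, 1196142254877982636,
  23417034009624492, 6138634963418235979347, 1196142588607967148, 1498690176615780268, 187336272076976044,
  1196142254861205420, 149517823575998380, 95916171303409937178, 76553125670909897497, 767329370427279497418,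
  9569140708863737187, 11989521412926242147, 1498690176615808355, 95916171303409937177, 11989521412926466841,
  149517781859747829, 2927129251203061, 49109079707345887834780, 149517823575995893, 187336272076972533,
  23417034009622005, 149517781857650677, 18689727946999797, 18689722732468725, 365891156400629, 149517781856639477,
  45736394709493, 2336215341685237, 292026999331317, 18689722732206581, 2336215993375221, 10793114031, 8911968687,
  2336215341508527, 11166112175, 570365073839, 71295654319, 10791016879, 1395775919, 36503364711855, 714631164847,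
  292026917688751, 89328895919, 4562920589231, 570365233071, 36503364711343, 4562921862063, 2336215341558559,
  45736394550047, 3142981101270136821425966, 2336215993374935, 2927129251202695, 365891156400343, 2336215341525791,
  292026999171871, 292026917694823, 5717049318759, 2336215341509991, 714631167335, 36503364713831, 4562921864551,
  292026917690727, 36503374896487, 1349139255, 1113996087, 292026917688567, 1395764023, 71295634231, 8911956791,
  1348877111, 174471991, 4562920588983, 89328895607, 36503364711095, 11166111991, 570365073655, 71295654135,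
  4562920588919, 570365232759, 168642423, 139249527, 2336215341508407, 174470519, 8911954295, 1113994615, 168609655,
  21809015, 21080439, 17406327, 168601975, 2177399, 2636151, 342391, 21076343, 2726263]
/-- second stage -/
def T2 : List ℕ := [
  1, 1, 1, 1, 1, 1, 1, 1, 1, 1, 1, 1, 1, 1, 1, 1, 1, 1, 28415205, 1, 1, 1, 1, 1, 1, 1, 1, 1, 1, 1, 1, 1, 1, 1, 443987,
  1, 108, 1, 1, 1, 6938, 1, 55498, 1, 867, 1, 6937, 1, 1, 1, 3551900, 1, 13, 1, 1, 1, 1, 1, 1, 1, 1, 1, 1, 1, 1, 1,
  28415221, 1, 6965, 1, 1, 1, 444085, 1, 3551925, 1, 55541, 1, 444021, 1, 28421475, 1, 1, 1, 1, 1, 28417379, 1,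
  3552684, 1, 28415404, 1, 444332, 1, 3552172, 1, 1, 1, 3551902, 1, 870, 1, 1, 1, 55510, 1, 443990, 1, 6942, 1, 55502,
  1, 1, 1, 28415206, 1, 110, 1, 1, 1, 1, 1, 1, 1, 1, 1, 1, 1, 1, 1, 1818574206, 1, 445822, 1, 1, 1, 28421502, 1,
  227323262, 1, 3554686, 1, 28417406, 1, 1818974462, 1, 1, 1, 1, 1, 1818712318, 1, 227371838, 1, 1818585918, 1,
  28437310, 1, 227339070, 1, 116414365612, 1, 1, 1, 1, 1, 116397588396, 1, 1, 1, 1, 1, 1, 1, 1, 1, 14551795701, 1, 1,
  1, 1, 1, 14549698549, 1, 1818974709, 1, 14548687349, 1, 227498485, 1, 1818712565, 1, 1, 1, 227321775, 1, 55727, 1, 1,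
  1, 3552687, 1, 28415407, 1, 444335, 1, 3552175, 1, 227371807, 1, 1, 1, 1, 1, 227339039, 1, 28421479, 1, 227323239, 1,
  3554663, 1, 28417383, 1, 1, 1, 28415223, 1, 6967, 1, 1, 1, 444087, 1, 3551927, 1, 55543, 1, 444023, 1, 1, 1,
  227321655, 1, 887, 1, 1, 1, 1, 1, 1, 1, 1, 1, 1, 1]

theorem cor_sp (i j k : Fin 8) : (Good.C chevE8).cor (RS.sp i (sm (D := chevE8) j)) k = mt i j k := by
  have h := piL_eq (D := chevE8) [i] (sm (D := chevE8) j)
  rw [List.map_singleton, List.prod_singleton] at h
  rw [show RS.sp i (sm (D := chevE8) j) = _ from h]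
  clear h; revert i j k; decide +kernel

theorem rf_ok : ∀ (i : Fin 8) (m : Fin 256), rf i m < 256 ∧
    ∀ k : Fin 8, (2 : ℤ) ∣ ∑ j : Fin 8, bit m j * mt i j k - bit (rf i m) k := by decide +kernel

theorem act_rf (i : Fin 8) {m : ℕ} (hm : m < 256) : RS.act (RS.sp i) (sg m) = sg (rf i m) := by
  refine (act_sgn (bit m) (bit (rf i m))).2 fun k => ?_
  simp only [cor_sp]
  exact (rf_ok i ⟨m, hm⟩).2 k

theorem act_wd (f c : ℕ) : ∃ w ∈ RS.W, ∀ m < 256, wd f c m < 256 ∧ RS.act w (sg m) = sg (wd f c m) := by
  induction f generalizing c with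
  | zero => exact ⟨1, one_mem _, fun m hm => ⟨hm, RootSys.act_one _⟩⟩
  | succ f ih =>
    by_cases hc : c ≤ 1
    · refine ⟨1, one_mem _, fun m hm => ?_⟩
      rw [wd, if_pos hc]; exact ⟨hm, RootSys.act_one _⟩
    · obtain ⟨w, hw, h⟩ := ih (c / 8)
      let i : Fin 8 := ⟨c % 8, Nat.mod_lt _ (by decide)⟩
      refine ⟨w * RS.sp i, mul_mem hw (RS.sp_mem_W i), fun m hm => ?_⟩
      rw [wd, if_neg hc, RootSys.act_mul hw, act_rf i hm]
      exact h _ (rf_ok i ⟨m, hm⟩).1

theorem ncard_sg (m : ℕ) :
    (RS.Phi (sg m)).ncard = (univ.filter fun r : R8 => (2 : ℤ) ∣ bit m ⬝ᵥ wtv (D := chevE8) r).card := by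
  rw [← Set.ncard_coe_finset]
  congr 1; ext r
  exact (mem_Phi_iff (bit m) r).trans (by simp only [coe_filter, mem_univ, true_and, Set.mem_ofPred_eq])

theorem st1 : ∀ m : Fin 256, wd 30 (T1.getD m 1) m = 0 ∨ wd 30 (T1.getD m 1) m = 1 ∨ wd 30 (T1.getD m 1) m = 6 := by
  decide +kernel

theorem st2 : ∀ m : Fin 256, wd 30 (T1.getD m 1) m = 6 → wd 30 (T1.getD (6 ^^^ m) 1) (6 ^^^ m) = 6 →
    wd 40 (T2.getD m 1) 6 = 6 ∧ wd 40 (T2.getD m 1) m = 20 := by
  decide +kernel

theorem good {m : ℕ} (hm : m < 256) (e : (RS.Phi (sg m)).ncard = 112) : wd 30 (T1.getD m 1) m = 6 := by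
  obtain ⟨w, hw, h⟩ := act_wd 30 (T1.getD m 1)
  rw [← RootSys.ncard_Phi_act hw, (h m hm).2] at e
  rcases st1 ⟨m, hm⟩ with h0 | h0 | h0
  · rw [show wd 30 (T1.getD m 1) m = 0 from h0, ncard_sg] at e
    exact absurd e (by decide +kernel)
  · rw [show wd 30 (T1.getD m 1) m = 1 from h0, ncard_sg] at e
    exact absurd e (by decide +kernel)
  · exact h0

theorem sg_mul (a b : ℕ) : sg a * sg b = sg (a ^^^ b) := by
  funext i
  simp only [sg, bit, Pi.mul_apply, Nat.testBit_xor]
  cases a.testBit i <;> cases b.testBit i <;> simp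

theorem exists_sg {s : Fin 8 → K3ˣ} (h : s * s = 1) : ∃ m < 256, s = sg m := by
  classical
  refine ⟨Nat.ofBits fun i : Fin 8 => decide (s i ≠ 1), Nat.ofBits_lt_two_pow _, funext fun i => ?_⟩
  have h1 : (s i : K3) * s i = 1 := by rw [← Units.val_mul, show s i * s i = 1 from congrFun h i, Units.val_one]
  rw [sg, bit, Nat.testBit_ofBits_lt _ _ i.2]
  by_cases h2 : s i = 1
  · simp [h2]
  · have h3 : s i = -1 := Units.ext ((mul_self_eq_one_iff.1 h1).resolve_left fun h4 => h2 (Units.ext h4))
    simp only [Fin.eta, ne_eq, h2, not_false_eq_true, decide_true, if_true, zpow_one]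
    exact h3

theorem pairB {s1 s2 : Fin 8 → K3ˣ} (h1 : s1 * s1 = 1) (h2 : s2 * s2 = 1) (e1 : (RS.Phi s1).ncard = 112)
    (e2 : (RS.Phi s2).ncard = 112) (e3 : (RS.Phi (s1 * s2)).ncard = 112) :
    ∃ w ∈ RS.W, RS.act w s1 = t1 ∧ RS.act w s2 = t2 := by
  obtain ⟨a, ha, rfl⟩ := exists_sg h1
  obtain ⟨b, hb, rfl⟩ := exists_sg h2
  obtain ⟨w, hw, h⟩ := act_wd 30 (T1.getD a 1)
  have ea := (h a ha).2
  rw [good ha e1] at ea
  obtain ⟨hc, eb⟩ := h b hb
  generalize wd 30 (T1.getD a 1) b = c at hc eb
  rw [← RootSys.ncard_Phi_act hw, eb] at e2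
  rw [← RootSys.ncard_Phi_act hw, map_mul, ea, eb, sg_mul] at e3
  obtain ⟨k1, k2⟩ := st2 ⟨c, hc⟩ (good hc e2) (good (Nat.xor_lt_two_pow (n := 8) (by decide) hc) e3)
  obtain ⟨w', hw', h'⟩ := act_wd 40 (T2.getD c 1)
  refine ⟨w' * w, mul_mem hw' hw, ?_, ?_⟩
  · rw [RootSys.act_mul hw', ea, (h' 6 (by decide)).2, show wd 40 (T2.getD c 1) 6 = 6 from k1]
    exact funext fun i => congrArg (fun n : ℤ => (-1 : K3ˣ) ^ n) ((by decide : ∀ i, bit 6 i = a1 i) i)
  · rw [RootSys.act_mul hw', eb, (h' c hc).2, show wd 40 (T2.getD c 1) c = 20 from k2]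
    exact funext fun i => congrArg (fun n : ℤ => (-1 : K3ˣ) ^ n) ((by decide : ∀ i, bit 20 i = a2 i) i)

end CL.E87.PairBx
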