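/-
`E₈(3)`, `L₂(7)`: pure four-groups are conjugate.
-/
import Cfsg.Agent.KSG.E87.PairBx

set_option autoImplicit false
set_option maxRecDepth 20000
set_option backward.isDefEq.respectTransparency false

namespace CL.E87
open Module Function Finset CL.Chev CL.AltE Cfsg.Lie
open CL.E82 (R8)
open CL.E83 (K3 G3)
open CL.E81 (Γ3 sig psi alg tor8)

theorem pairB {s1 s2 : Fin 8 → K3ˣ} (h1 : s1 * s1 = 1) (h2 : s2 * s2 = 1) (e1 : (RS.Phi s1).ncard = 112)
    (e2 : (RS.Phi s2).ncard = 112) (e3 : (RS.Phi (s1 * s2)).ncard = 112) :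
    ∃ w ∈ RS.W, RS.act w s1 = t1 ∧ RS.act w s2 = t2 :=
  PairBx.pairB h1 h2 e1 e2 e3

end CL.E87
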