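/-
`E₈(3)`, `L₂(7)`: the two forms of the centraliser.
-/
import Cfsg.Agent.KSG.E87.Comp

set_option autoImplicit false
set_option maxRecDepth 20000
set_option backward.isDefEq.respectTransparency false

namespace CL.E87
open Module Function Finset CL.Chev CL.AltE Cfsg.Lie
open CL.E82 (R8)
open CL.E83 (K3 G3)
open CL.E81 (Γ3 sig psi alg tor8)

namespace Red

theorem cube (a : Fin 8 → ℤ) : (fun i => (-1 : K3ˣ) ^ a i) ^ 3 = fun i => (-1 : K3ˣ) ^ a i := by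
  funext i
  have h : ((-1 : K3ˣ) ^ a i) ^ 2 = 1 := by
    rw [← zpow_natCast, ← zpow_mul, mul_comm, zpow_mul, zpow_natCast, neg_one_sq, one_zpow]
  rw [Pi.pow_apply, pow_succ, h, one_mul]

theorem sig_t1 : sig (tor8 t1) = tor8 t1 := (alg.map_torHom t1).trans (congrArg _ (cube a1))
theorem sig_t2 : sig (tor8 t2) = tor8 t2 := (alg.map_torHom t2).trans (congrArg _ (cube a2))
theorem sig_psi (g : G3) : sig (psi g) = psi g := (E81.psi_range _).1 ⟨g, rfl⟩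

theorem comm {g : G3} {y t : Γ3} (h : y * psi g * y⁻¹ = t) (ht : sig t = t) :
    y * (sig y)⁻¹ * t * (y * (sig y)⁻¹)⁻¹ = t := by
  have e : sig y * psi g * (sig y)⁻¹ = t := by
    rw [← ht, ← h, map_mul, map_mul, map_inv, sig_psi]
  have e2 : (sig y)⁻¹ * t * sig y = psi g := by rw [← e]; group
  calc _ = y * ((sig y)⁻¹ * t * sig y) * y⁻¹ := by group
    _ = t := by rw [e2, h]

theorem cj {a g : G3} {y t : Γ3} (h : y * psi a * y⁻¹ = t) :
    y * psi g * y⁻¹ * t * (y * psi g * y⁻¹)⁻¹ = t ↔ g ∈ Subgroup.centralizer {a} := by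
  rw [Subgroup.mem_centralizer_singleton_iff, ← E81.psi_inj.eq_iff, map_mul, map_mul, ← h, mul_inv_eq_iff_eq_mul]
  constructor
  · intro e
    calc psi g * psi a = y⁻¹ * (y * psi g * y⁻¹ * (y * psi a * y⁻¹)) * y := by group
      _ = psi a * psi g := by rw [e]; group
  · intro e
    calc y * psi g * y⁻¹ * (y * psi a * y⁻¹) = y * (psi g * psi a) * y⁻¹ := by group
      _ = _ := by rw [e]; group

theorem card {a b : G3} {y n : Γ3} (ha : y * psi a * y⁻¹ = tor8 t1) (hb : y * psi b * y⁻¹ = tor8 t2)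
    (hn : n = y * (sig y)⁻¹) :
    Nat.card ↥(Subgroup.centralizer {a} ⊓ Subgroup.centralizer {b}) = Nat.card ↥(CC ⊓ fixS (twE n sig)) := by
  refine Nat.card_eq_of_bijective (fun g => ⟨y * psi g.1 * y⁻¹, mem_CC.2 ⟨(cj ha).2 g.2.1, (cj hb).2 g.2.2⟩,
    mem_fixS.2 ((twE_conj_iff hn _).2 (sig_psi _))⟩) ⟨fun g g' e => ?_, fun x => ?_⟩
  · have e' : y * psi g.1 * y⁻¹ = y * psi g'.1 * y⁻¹ := congrArg Subtype.val e
    exact Subtype.ext (E81.psi_inj (mul_left_cancel (mul_right_cancel e')))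
  · obtain ⟨x, hx, hf⟩ := x
    have e : x = y * (y⁻¹ * x * y) * y⁻¹ := by group
    have hf' := mem_fixS.1 hf
    rw [e, twE_conj_iff hn] at hf'
    obtain ⟨g, hg⟩ := (E81.psi_range _).2 hf'
    have hx' := mem_CC.1 hx
    rw [e, ← hg] at hx'
    have e2 : y * psi g * y⁻¹ = x := by rw [hg]; group
    exact ⟨⟨g, (cj ha).1 hx'.1, (cj hb).1 hx'.2⟩, Subtype.ext e2⟩

end Red

/-- sig fixes psi a, psi b, tor8 t1, tor8 t2 (`alg.map_torHom`, t³ = t), so c = y (sig y)⁻¹ ∈ CC. With x from `lang_CC` and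
y' = x⁻¹ y: y' (sig y')⁻¹ = n ∈ {1, n0}, y' still conjugates psi a, psi b to tor8 t1, tor8 t2. g ↦ y' (psi g) y'⁻¹ is a bijection
onto CC ⊓ fixS (twE n sig) (`twE_conj_iff`, `E81.psi_range`, `E81.psi_inj`, `twE_one`). -/
theorem red {a b : G3} {y : Γ3} (ha : y * psi a * y⁻¹ = tor8 t1) (hb : y * psi b * y⁻¹ = tor8 t2) :
    Nat.card ↥(Subgroup.centralizer {a} ⊓ Subgroup.centralizer {b}) = Nat.card ↥(CC ⊓ fixS sig) ∨
    Nat.card ↥(Subgroup.centralizer {a} ⊓ Subgroup.centralizer {b}) = Nat.card ↥(CC ⊓ fixS tau) := by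
  obtain ⟨x, hx, h⟩ := lang_CC (mem_CC.2 ⟨Red.comm ha Red.sig_t1, Red.comm hb Red.sig_t2⟩)
  have hx' := mem_CC.1 (inv_mem hx)
  have ha' : x⁻¹ * y * psi a * (x⁻¹ * y)⁻¹ = tor8 t1 := by rw [← hx'.1, ← ha]; group
  have hb' : x⁻¹ * y * psi b * (x⁻¹ * y)⁻¹ = tor8 t2 := by rw [← hx'.2, ← hb]; group
  have e : x⁻¹ * y * (sig (x⁻¹ * y))⁻¹ = x⁻¹ * (y * (sig y)⁻¹) * sig x := by
    rw [map_mul, map_inv]; group
  rcases h with h | h
  · left
    have := Red.card ha' hb' (n := 1) (by rw [e, h]; group)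
    rwa [twE_one] at this
  · right
    exact Red.card ha' hb' (n := n0) (by rw [e, h]; group)

end CL.E87
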