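/-
`E₈(3)`, `L₂(7)`: the Poincaré polynomial.
-/
import Cfsg.Agent.KSG.E87.Rts

set_option autoImplicit false
set_option maxRecDepth 20000
set_option backward.isDefEq.respectTransparency false

namespace CL.E87
open Module Function Finset CL.Chev CL.AltE Cfsg.Lie
open CL.E82 (R8)
open CL.E83 (K3 G3)
open CL.E81 (Γ3 sig psi alg tor8)

/-- `base_PP.sum_of_check` (pattern: `SubChk.card_centralizer`, `card_centralizer_E8b` in CHEV/SsInv) with the block matrix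
A = two copies of [[2,-1,-1,-1],[-1,2,0,0],[-1,0,2,0],[-1,0,0,2]] (centre first), d = ones, Φ = the 24 positive roots, the Coxeter
matrix, N = 60, ks = [1, 2, 3, 0, 5, 6, 7, 4] or any order that checks, Es read off with #eval of `Calc.bfs` in a scratch file
outside the Agent folder. (1+3)(1+3+9)(1+3+9+27)(1+3+9+2·27+81+243+729) = 2329600. -/
theorem poin [Fintype (RS.WS PP)] : ∑ v : RS.WS PP, 3 ^ (RS.invs v ∩ PP).ncard = 2329600 ^ 2 := by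
  refine (base_PP.sum_of_check (M := ⟨!![1, 3, 3, 3, 2, 2, 2, 2; 3, 1, 2, 2, 2, 2, 2, 2; 3, 2, 1, 2, 2, 2, 2, 2; 3, 2, 2, 1, 2, 2, 2, 2; 2, 2, 2, 2, 1, 3, 3, 3; 2, 2, 2, 2, 3, 1, 2, 2; 2, 2, 2, 2, 3, 2, 1, 2; 2, 2, 2, 2, 3, 2, 2, 1], by decide, by decide, by decide⟩)
    (A := [[2, -1, -1, -1, 0, 0, 0, 0], [-1, 2, 0, 0, 0, 0, 0, 0], [-1, 0, 2, 0, 0, 0, 0, 0], [-1, 0, 0, 2, 0, 0, 0, 0], [0, 0, 0, 0, 2, -1, -1, -1], [0, 0, 0, 0, -1, 2, 0, 0], [0, 0, 0, 0, -1, 0, 2, 0], [0, 0, 0, 0, -1, 0, 0, 2]]) (d := [1, 1, 1, 1, 1, 1, 1, 1])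
    (Φ := [[0, 0, 0, 0, 0, 0, 0, 1], [0, 0, 0, 0, 0, 0, 1, 0], [0, 0, 0, 0, 0, 1, 0, 0], [0, 0, 0, 0, 1, 0, 0, 0], [0, 0, 0, 1, 0, 0, 0, 0], [0, 0, 1, 0, 0, 0, 0, 0], [0, 1, 0, 0, 0, 0, 0, 0], [1, 0, 0, 0, 0, 0, 0, 0], [0, 0, 0, 0, 1, 0, 0, 1], [0, 0, 0, 0, 1, 0, 1, 0], [0, 0, 0, 0, 1, 1, 0, 0], [1, 0, 0, 1, 0, 0, 0, 0], [1, 0, 1, 0, 0, 0, 0, 0], [1, 1, 0, 0, 0, 0, 0, 0], [0, 0, 0, 0, 1, 0, 1, 1], [0, 0, 0, 0, 1, 1, 0, 1], [0, 0, 0, 0, 1, 1, 1, 0], [1, 0, 1, 1, 0, 0, 0, 0], [1, 1, 0, 1, 0, 0, 0, 0], [1, 1, 1, 0, 0, 0, 0, 0], [0, 0, 0, 0, 1, 1, 1, 1], [1, 1, 1, 1, 0, 0, 0, 0], [0, 0, 0, 0, 2, 1, 1, 1], [2, 1, 1, 1, 0, 0, 0, 0]])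
    (by decide +kernel) (by decide +kernel) (N := 60) (ks := [1, 2, 0, 3, 5, 6, 4, 7])
    (Es := [[(0, 0), (1, 0), (2, 0), (3, 0), (3, 0), (4, 0), (5, 0), (6, 0)], [(0, 0), (1, 0), (2, 0), (3, 0)], [(0, 0), (1, 0), (2, 0)], [(0, 0), (1, 0)], [(0, 0), (1, 0), (2, 0), (3, 0), (3, 0), (4, 0), (5, 0), (6, 0)], [(0, 0), (1, 0), (2, 0), (3, 0)], [(0, 0), (1, 0), (2, 0)], [(0, 0), (1, 0)]])
    (by decide +kernel) (by decide) ?_ 3).trans (by decide +kernel)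
  simp only [rootSys_pair']
  decide +kernel

/-- every reflection in a root of PP preserves T = {r | r ∈ D1 ∨ ng r ∈ D1} (for s ∈ T: `RootSys.refl_mem`-like closure, check on
`rt_refl` by `decide +kernel`; for s ∉ T the pairing vanishes), `Subgroup.closure_induction`; but w0 130 = 120 -/
theorem w0_not : w0 ∉ RS.WS PP := by
  let T : R8 → Prop := fun r => r ∈ D1 ∨ ng r ∈ D1
  let U : R8 → Prop := fun r => r ∈ D2 ∨ ng r ∈ D2
  have ho : ∀ r s : R8, T r → U s → RS.pair r s = 0 ∧ RS.pair s r = 0 ∧ r ≠ s := by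
    simp only [rootSys_pair', T, U]
    decide +kernel
  have hP : ∀ r, r ∈ PP ↔ T r ∨ U r := fun r => by rw [mem_PP]; simp only [T, U]; tauto
  have hi : ∀ s r : R8, RS.refl s (RS.refl s r) = r := fun s r => congrArg (· r) (RS.refl_mul_self s)
  have h1 : ∀ s ∈ PP, ∀ r, T r → T (RS.refl s r) := by
    intro s hs r hr
    rcases (hP s).1 hs with h | h
    · refine ((hP _).1 (base_PP.1 s hs r ((hP r).2 (Or.inl hr)))).resolve_right fun hu => ?_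
      have h2 := (RS.refl_eq_self_iff s _).2 (ho s _ h hu).1
      rw [hi] at h2
      exact (ho r _ hr hu).2.2 h2
    · rwa [(RS.refl_eq_self_iff s r).2 (ho r s hr h).2.1]
  have h2 : ∀ w ∈ RS.WS PP, ∀ r, T (w r) ↔ T r := by
    intro w hw
    induction hw using Subgroup.closure_induction with
    | mem x hx =>
      obtain ⟨s, hs, rfl⟩ := hx
      exact fun r => ⟨fun h => hi s r ▸ h1 s hs _ h, h1 s hs r⟩
    | one => exact fun _ => Iff.rfl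
    | mul x y _ _ hx hy => exact fun r => (hx (y r)).trans (hy r)
    | inv x _ hx => exact fun r => (hx (x⁻¹ r)).symm.trans (by rw [show x (x⁻¹ r) = r from x.apply_symm_apply r])
  intro h
  have h3 := (h2 w0 h (130 : Fin 240)).2 (Or.inl (by decide))
  rw [w0_apply] at h3
  revert h3
  simp only [T]
  decide +kernel

end CL.E87
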