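/-
`E₈(3)`, `L₂(7)`: the split form.
-/
import Cfsg.Agent.KSG.E87.Cell
import Cfsg.Agent.KSG.E87.Poin

set_option autoImplicit false
set_option maxRecDepth 20000
set_option backward.isDefEq.respectTransparency false

namespace CL.E87
open Module Function Finset CL.Chev CL.AltE Cfsg.Lie
open CL.E82 (R8)
open CL.E83 (K3 G3)
open CL.E81 (Γ3 sig psi alg tor8)

/-- `cell alg.gf` with J = WS PP × Bool, w (v, b) = v or w0 v (injective by `w0_not`), m = nw (l v) or n0 nw (l v) with l v a word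
for v (`RootSys.mem_W_iff`, `alg.map_nw`, `mem_CC_of_acts`, `act_WS`); invs (w0 v) ∩ PP = invs v ∩ PP (`w0_PQ`, `WS_mem_iff`);
`alg.card_fix_XS`, `ncard_PQ`, `alg.card_fix_H`, `poin`: 3^24 * (2^8 * (2 * 2329600^2)) > 3^56. -/
theorem split : 3 ^ 56 < Nat.card ↥(CC ⊓ fixS sig) := by
  classical
  have := Fintype.ofFinite (RS.WS PP)
  choose l hl using fun v : RS.WS PP => RS.mem_W_iff.1 (RootSys.WS_le_W _ v.2)
  have ha : ∀ v : RS.WS PP, SS.Acts (SS.nw (l v)) v := fun v => by rw [hl v]; exact SS.acts_nw _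
  have hcc : ∀ v : RS.WS PP, SS.nw (l v) ∈ CC := fun v => mem_CC_of_acts (ha v) (act_WS v.2).1 (act_WS v.2).2
  have hc : ∀ v : RS.WS PP, Nat.card ↥(SS.XS (RS.invs v ∩ PP) ⊓ fixS sig) = 3 ^ (RS.invs v ∩ PP).ncard :=
    fun v => alg.card_fix_XS (fun r hr => hr.1.1) ((RootSys.closed_invs (ha v).mem_W).inter closed_PP)
  have hi : ∀ v : RS.WS PP, RS.invs (w0 * v.1) ∩ PP = RS.invs v ∩ PP := fun v => by
    ext r
    refine and_congr_left fun hr => and_congr_right fun _ => not_congr ?_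
    have h1 : v.1 r ∈ PP := (RootSys.WS_mem_iff base_PP.1 v.2 r).2 hr
    exact ⟨fun h => ((w0_PQ (v.1 r)).1 ⟨h, (w0_PP _).2 h1⟩).1, fun h => ((w0_PQ (v.1 r)).2 ⟨h, h1⟩).1⟩
  have h := cell alg.gf (J := RS.WS PP ⊕ RS.WS PP) (m := Sum.elim (fun v => SS.nw (l v)) fun v => n0 * SS.nw (l v))
    (w := Sum.elim (fun v => v.1) fun v => w0 * v.1)
    (by rintro (v | v); exacts [SS.nw_mem_N _, mul_mem n0_mem (SS.nw_mem_N _)])
    (by rintro (v | v); exacts [ha v, acts_n0.mul (ha v)])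
    (by
      rintro (v | v)
      · exact alg.map_nw _
      · exact (map_mul sig _ _).trans (congrArg₂ _ sig_n0 (alg.map_nw _)))
    (by rintro (v | v); exacts [hcc v, mul_mem n0_CC (hcc v)])
    (by
      rintro (v | v) (v' | v') e
      · exact congrArg _ (Subtype.ext e)
      · exact absurd (eq_mul_inv_of_mul_eq (Eq.symm e) ▸ mul_mem v.2 (inv_mem v'.2)) w0_not
      · exact absurd (eq_mul_inv_of_mul_eq e ▸ mul_mem v'.2 (inv_mem v.2)) w0_not
      · exact congrArg _ (Subtype.ext (mul_left_cancel e)))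
  rw [Fintype.sum_sum_type] at h
  simp only [Sum.elim_inl, Sum.elim_inr, hi, hc] at h
  rw [poin, alg.card_fix_H, alg.card_fix_XS (fun _ h => h.1) closed_PQ, ncard_PQ, Fintype.card_fin,
    show chevE8.rank = 8 from rfl] at h
  exact lt_of_lt_of_le (by norm_num) h

end CL.E87
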