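/-
`E₈(3)`, `L₂(7)`: the order of the twisted torus.
-/
import Cfsg.Agent.KSG.E87.Rts

set_option autoImplicit false
set_option maxRecDepth 20000
set_option maxHeartbeats 400000
set_option backward.isDefEq.respectTransparency false

namespace CL.E87.TwHx
open Module Function Finset CL.Chev CL.AltE Cfsg.Lie
open CL.E82 (R8)
open CL.E83 (K3 G3)
open CL.E81 (Γ3 sig psi alg tor8)

/-- the matrix of `w0` -/
def MM : Matrix (Fin 8) (Fin 8) ℤ := !![-1, -2, -2, -3, -2, -2, -2, -1; 0, 1, 1, 2, 2, 2, 1, 0; 0, 0, 0, 0, 0, 0, 1, 0;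
  0, 0, 0, 0, 0, 0, 0, 1; 2, 2, 3, 4, 3, 2, 1, 0; -2, -2, -4, -5, -4, -3, -2, -1; 0, 0, 1, 0, 0, 0, 0, 0; 0, 0, 0, 1, 0, 0, 0, 0]
/-- it conjugates `MM` to its negative -/
def PM : Matrix (Fin 8) (Fin 8) ℤ := !![1, 1, 2, 2, 1, 0, 0, 0; 0, -1, 0, 0, 0, 0, 0, 0; 0, 0, -1, 0, 0, 0, 0, 0;
  0, 0, 0, -1, 0, 0, 0, 0; 0, 0, 0, 0, -1, 0, 0, 0; 0, 1, 1, 2, 2, 1, 0, 0; 0, 0, 0, 0, 0, 0, 1, 0; 0, 0, 0, 0, 0, 0, 0, 1]

theorem det_sq : (((3 : ℕ) : Matrix (Fin 8) (Fin 8) ℤ) - MM).det ^ 2 = 4096 ^ 2 := by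
  have e3 : ((3 : ℕ) : Matrix (Fin 8) (Fin 8) ℤ) = Matrix.diagonal fun _ => 3 := (Matrix.diagonal_natCast 3).symm
  rw [e3]
  have h1 : PM * ((Matrix.diagonal fun _ => 3) - MM) * PM * ((Matrix.diagonal fun _ => 3) - MM) =
      Matrix.diagonal fun _ => 8 := by decide +kernel
  have h2 : PM * PM = 1 := by decide +kernel
  have h3 := congrArg Matrix.det h1
  have h4 := congrArg Matrix.det h2
  simp only [Matrix.det_mul, Matrix.det_diagonal, Matrix.det_one, prod_const, card_univ, Fintype.card_fin] at h3 h4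
  linear_combination h3 - ((Matrix.diagonal fun _ => (3 : ℤ)) - MM).det ^ 2 * h4

theorem coM_w0 : RS.coM w0⁻¹ = MM := by
  rw [inv_eq_of_mul_eq_one_right w0_mul, show RS.coM w0 = corM (D := chevE8) w0 from corM_eq (D := chevE8) w0,
    show (w0 : R8 → R8) = piL (D := chevE8) l0 from funext w0_apply]
  decide +kernel

theorem gen {ι κ : Type*} [Fintype κ] [DecidableEq κ] {R : RootSys ι κ} {K Γ : Type*} [Field K] [Group Γ]
    {S : StData R K Γ} {φ : K →+* K} {q : ℕ} {σ : Monoid.End Γ} [Finite ι] [IsAlgClosed K] (A : S.Alg φ q σ) {m : Γ}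
    {w : Equiv.Perm ι} (hm : S.Acts m w) :
    (Nat.card ↥(S.H ⊓ fixS (twE m σ)) : ℤ) = ((q : Matrix κ κ ℤ) - R.coM w⁻¹).det := by
  rw [← RootSys.card_act_eq_pow (R := R) (K := K) (inv_mem hm.mem_W) A.frob.one_lt A.frob.cast_eq_zero]
  refine congrArg _ (Nat.card_eq_of_bijective (fun t => ⟨A.r3.torHom t.1, A.r3.torHom_mem _, mem_fixS.2
    ((A.twE_torHom_iff hm _).2 t.2)⟩) ⟨fun t t' e => Subtype.ext (A.sc (congrArg Subtype.val e)), ?_⟩).symm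
  rintro ⟨h, hh, e⟩
  obtain ⟨t, rfl⟩ := A.r3.range_torHom ▸ hh
  exact ⟨⟨t, (A.twE_torHom_iff hm _).1 e⟩, rfl⟩

theorem twH : Nat.card ↥(SS.H ⊓ fixS tau) = 4096 := by
  have h := gen alg acts_n0
  rw [coM_w0] at h
  have h2 := det_sq
  rw [← h] at h2
  exact Nat.pow_left_injective two_ne_zero (by exact_mod_cast h2)

end CL.E87.TwHx
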