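/-
`E₈(3)`, `L₂(7)`: the twisted form: a fixed representative of `-1`.
-/
import Cfsg.Agent.KSG.E87.Rts

set_option autoImplicit false
set_option maxRecDepth 20000
set_option backward.isDefEq.respectTransparency false

namespace CL.E87.TwM
open Module Function Finset CL.Chev CL.AltE Cfsg.Lie
open CL.E82 (R8)
open CL.E83 (K3 G3)
open CL.E81 (Γ3 sig psi alg tor8)

theorem twM : ∃ m ∈ SS.N, SS.Acts m wN ∧ tau m = m := by
  have hN := SS.nw_mem_N lN
  have hA := acts_nN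
  have hs : sig (SS.nw lN) = SS.nw lN := alg.map_nw lN
  generalize SS.nw lN = m0 at hN hA hs
  have e1 : tau m0 = n0 * m0 * n0⁻¹ := by rw [tau, twE_apply, hs]
  have e2 : w0 * wN * w0⁻¹ * wN⁻¹ = 1 := by
    have : w0 * wN = wN * w0 := Equiv.ext fun r => by
      rw [Equiv.Perm.mul_apply, Equiv.Perm.mul_apply, wN_apply, wN_apply]
      exact RS.W_neg w0_mem r
    rw [this, mul_inv_cancel_right, mul_inv_cancel]
  have hH : tau m0 * m0⁻¹ ∈ SS.H := by
    rw [e1]
    exact alg.good.mem_H_of_acts_one (mul_mem (mul_mem (mul_mem n0_mem hN) (inv_mem n0_mem)) (inv_mem hN))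
      (e2 ▸ ((acts_n0.mul hA).mul acts_n0.inv).mul hA.inv)
  obtain ⟨z, hz, e⟩ := alg.lang_H gf_tau _ hH
  refine ⟨z * m0, mul_mem (SS.H_le_N hz) hN, one_mul wN ▸ (SS.acts_of_mem_H hz).mul hA, ?_⟩
  rw [map_mul, mul_inv_eq_iff_eq_mul.1 e, alg.r3.H_comm hz (inv_mem (gf_tau.H z hz)), ← mul_assoc,
    mul_inv_cancel_left]

end CL.E87.TwM
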