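/-
`E₈(3)`, `L₂(7)`: the twisted form: the torus.
-/
import Cfsg.Agent.KSG.E87.TwHx
import Cfsg.Agent.KSG.E87.TwM

set_option autoImplicit false
set_option maxRecDepth 20000
set_option backward.isDefEq.respectTransparency false

namespace CL.E87
open Module Function Finset CL.Chev CL.AltE Cfsg.Lie
open CL.E82 (R8)
open CL.E83 (K3 G3)
open CL.E81 (Γ3 sig psi alg tor8)

theorem twH : Nat.card ↥(SS.H ⊓ fixS tau) = 4096 := TwHx.twH

theorem twM : ∃ m ∈ SS.N, SS.Acts m wN ∧ tau m = m := TwM.twM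

end CL.E87
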