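/-
`E₈(3)`, `L₂(7)`: the twisted form.
-/
import Cfsg.Agent.KSG.E87.Cell
import Cfsg.Agent.KSG.E87.TwU
import Cfsg.Agent.KSG.E87.TwH

set_option autoImplicit false
set_option maxRecDepth 20000
set_option backward.isDefEq.respectTransparency false

namespace CL.E87
open Module Function Finset CL.Chev CL.AltE Cfsg.Lie
open CL.E82 (R8)
open CL.E83 (K3 G3)
open CL.E81 (Γ3 sig psi alg tor8)

theorem Tw.invs_eq {w : Equiv.Perm R8} (h : ∀ r : R8, r ∈ D1 ∨ r ∈ D2 → ¬ 120 ≤ (w r : Fin 240).1) :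
    RS.invs w ∩ PP = PQ := by
  ext r
  refine ⟨fun hr => ⟨hr.1.1, hr.2⟩, fun hr => ⟨⟨hr.1, fun e => ?_⟩, hr.2⟩⟩
  exact h r ((mem_PQ r).1 hr) ((isPos_iff _).1 e)

theorem Tw.i1 : RS.invs wN ∩ PP = PQ := Tw.invs_eq fun r => by
  rw [wN_apply]; revert r; decide +kernel

theorem Tw.i2 : RS.invs (w0 * wN) ∩ PP = PQ := Tw.invs_eq fun r => by
  rw [Equiv.Perm.mul_apply, wN_apply, w0_apply]; revert r; decide +kernel

theorem Tw.ne : w0 ≠ 1 := fun e => by
  have h := w0_apply (130 : Fin 240)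
  rw [e, Equiv.Perm.one_apply] at h
  revert h; decide +kernel

/-- `cell gf_tau` with J = Bool, m and n0 * m (tau n0 = n0), w = wN, w0 * wN (w0 ≠ 1: w0 130 = 120); invs w ∩ PP = PQ in both cases
(`wN_apply`, `w0_PQ`, `isPos_iff`); 9^12 * (4096 * (2 * 9^12)) > 3^56. -/
theorem twist : 3 ^ 56 < Nat.card ↥(CC ⊓ fixS tau) := by
  obtain ⟨m, hN, ha, hf⟩ := twM
  have hc : m ∈ CC := mem_CC_of_acts ha act_wN.1 act_wN.2
  have h0 : tau n0 = n0 := by rw [tau, twE_apply, sig_n0, mul_inv_cancel_right]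
  have h := cell gf_tau (J := Bool) (m := fun j => cond j m (n0 * m)) (w := fun j => cond j wN (w0 * wN))
    (by rintro (_ | _); exacts [mul_mem n0_mem hN, hN]) (by rintro (_ | _); exacts [acts_n0.mul ha, ha])
    (by rintro (_ | _); exacts [(map_mul tau n0 m).trans (by rw [h0, hf]; rfl), hf])
    (by rintro (_ | _); exacts [mul_mem n0_CC hc, hc])
    (by
      rintro (_ | _) (_ | _) e
      · rfl
      · exact absurd (mul_eq_right.1 e) Tw.ne
      · exact absurd (mul_eq_right.1 e.symm) Tw.ne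
      · rfl)
  rw [Fintype.sum_bool] at h
  simp only [cond_true, cond_false] at h
  rw [Tw.i1, Tw.i2, twH] at h
  have hU := twU
  refine lt_of_lt_of_le ?_ (le_trans (Nat.mul_le_mul hU (Nat.mul_le_mul_left _ (Nat.add_le_add hU hU))) h)
  norm_num

end CL.E87
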