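/-
`E₈(3)` has no maximal subgroup with socle `L₂(7)`.
-/
import Cfsg.Agent.KSG.E87.Gen
import Cfsg.Agent.KSG.E87.Dim2
import Cfsg.Agent.KSG.E87.Dim4
import Cfsg.Agent.KSG.E87.PairA
import Cfsg.Agent.KSG.E87.PairB
import Cfsg.Agent.KSG.E87.Red
import Cfsg.Agent.KSG.E87.Split
import Cfsg.Agent.KSG.E87.Tw

set_option autoImplicit false
set_option maxRecDepth 20000
set_option maxHeartbeats 400000
set_option backward.isDefEq.respectTransparency false

namespace CL.E87
open Module Function Finset CL.Chev CL.AltE Cfsg.Lie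
open CL.E82 (R8)
open CL.E83 (K3 G3)
open CL.E81 (Γ3 sig psi alg tor8)

theorem big {a b : G3} (ha : a * a = 1) (hb : b * b = 1) (hab : a * b = b * a) (fa : fx (r3 a) = 120)
    (fb : fx (r3 b) = 120) (fab : fx (r3 (a * b)) = 120) :
    3 ^ 56 < Nat.card ↥(Subgroup.centralizer {a} ⊓ Subgroup.centralizer {b}) := by
  obtain ⟨y, s1, s2, e1, e2⟩ := pairA (a := psi a) (b := psi b) (by rw [← map_mul, ha, map_one])
    (by rw [← map_mul, hb, map_one]) (by rw [← map_mul, hab, map_mul])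
  have e3 : y * psi (a * b) * y⁻¹ = tor8 (s1 * s2) := by rw [map_mul, map_mul, ← e1, ← e2]; group
  have q : ∀ {g : G3} {s}, g * g = 1 → y * psi g * y⁻¹ = tor8 s → s * s = 1 := fun {g s} hg e => alg.sc (by
    change tor8 (s * s) = tor8 1
    rw [map_mul, map_one, ← e, show y * psi g * y⁻¹ * (y * psi g * y⁻¹) = y * (psi g * psi g) * y⁻¹ by group,
      ← map_mul psi, hg, map_one]
    simp)
  have l1 := link e1
  have l2 := link e2
  have l3 := link e3
  obtain ⟨w, hw, h1, h2⟩ := pairB (q ha e1) (q hb e2) (by omega) (by omega) (by omega)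
  obtain ⟨m, -, hm⟩ := SS.exists_acts hw
  have c : ∀ {g : G3} {s}, y * psi g * y⁻¹ = tor8 s → m * y * psi g * (m * y)⁻¹ = tor8 (RS.act w s) := fun {g s} e =>
    (show _ = m * (y * psi g * y⁻¹) * m⁻¹ by group).trans (by rw [e]; exact alg.r3.conj_torHom hm s)
  rcases red (h1 ▸ c e1) (h2 ▸ c e2) with h | h
  · rw [h]; exact split
  · rw [h]; exact twist

theorem main {H : Subgroup G3} {θ : S7 →* G3} (E : Emb H θ) : ¬ IsCoatom H :=
  gen r3 finrank_VV (by rw [E83.card_G3]; decide +kernel) nofix exists_form dim2 dim4 dim7 big E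

end CL.E87
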