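/-
The big cell of the centraliser of a semisimple element.
-/
import Cfsg.Agent.KSG.E87.TwUx
import Cfsg.Agent.CHEV.Spec

set_option autoImplicit false

namespace CL.E87.TwX
open CL.Chev CL.Chev.StData

variable {ι κ : Type*} [Fintype κ] [DecidableEq κ] {R : RootSys ι κ} {K Γ : Type*} [Field K] [Group Γ]
  {S : StData R K Γ} {φ : K →+* K} {q : ℕ} {σ : Monoid.End Γ} [Finite ι] [IsAlgClosed K]

omit [Finite ι] [IsAlgClosed K] in
theorem mem_Phi {w : Equiv.Perm ι} (hw : w ∈ R.W) {t : κ → Kˣ} (h : R.act w⁻¹ t = t ^ q) {r : ι} (hr : r ∈ R.Phi t) :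
    w r ∈ R.Phi t := by
  refine (RootSys.mem_Phi_act (inv_mem hw)).1 ?_
  rw [h, RootSys.perm_inv_apply]
  exact (uchr_pow _ _ _).trans (by rw [show uchr t _ = 1 from hr, one_pow])

/-- a quasi-split frame -/
theorem frame (A : S.Alg φ q σ) {s g : Γ} {t : κ → Kˣ} (hs : σ s = s) (e : g * s * g⁻¹ = A.r3.torHom t) :
    ∃ y m w, S.Acts m w ∧ m = y * (σ y)⁻¹ ∧ y * s * y⁻¹ = A.r3.torHom t ∧ R.act w⁻¹ t = t ^ q ∧
      ∀ r ∈ R.Phi t, R.IsPos r → R.IsPos (w r) := by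
  obtain ⟨l, y, e1, e2⟩ := A.exists_twist A.gf hs (g := g) (e ▸ A.r3.torHom_mem t)
  rw [e] at e2
  have ha := S.acts_nw l
  have h1 : twE (S.nw l) σ (A.r3.torHom t) = A.r3.torHom t := e2 ▸ (twE_conj_iff e1 s).2 hs
  obtain ⟨b, hb, h2⟩ := RootSys.exists_mul_isPos (R.Phi t) ha.mem_W
  obtain ⟨n, -, hn, hn'⟩ := S.exists_acts_of_mem_WS (fun _ => RootSys.neg_mem_Phi) hb
  obtain ⟨x, hx, e3⟩ := A.lang_cent_H (A.gf_twE A.gf ha) (A.r3.torHom_mem t) h1 (S.nw l * n * (S.nw l)⁻¹)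
    (A.r3.XS_Phi_le A.good t (Subgroup.mem_sup_left
      (ha.conj_mem_XS (fun r hr => mem_Phi ha.mem_W ((A.twE_torHom_iff ha t).1 h1) hr) hn)))
  have e4 : S.nw l * n = x * y * (σ (x * y))⁻¹ := by
    rw [twE_apply] at e3
    rw [map_mul, _root_.mul_inv_rev, mul_assoc x, ← mul_assoc y, ← e1, ← mul_right_cancel_iff (a := (S.nw l)⁻¹), e3]
    group
  have e5 : x * y * s * (x * y)⁻¹ = A.r3.torHom t := by
    rw [show x * y * s * (x * y)⁻¹ = x * (y * s * y⁻¹) * x⁻¹ by group, e2,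
      Subgroup.mem_centralizer_singleton_iff.1 hx, mul_inv_cancel_right]
  exact ⟨_, _, _, ha.mul hn', e4, e5, (A.twE_torHom_iff (ha.mul hn') t).1 (e5 ▸ (twE_conj_iff e4 s).2 hs), h2⟩

/-- the big cell -/
theorem cell (A : S.Alg φ q σ) {m : Γ} {w : Equiv.Perm ι} (hm : S.Acts m w) {T : Set ι} (hc : R.Closed T)
    (hn : ∀ r ∈ T, R.neg r ∈ T) (hs : ∀ r ∈ T, w r ∈ T) (hp : ∀ r ∈ T, R.IsPos r → R.IsPos (w r)) :
    q ^ T.ncard * Nat.card {u : κ → Kˣ // R.act w⁻¹ u = u ^ q} ≤ Nat.card ↥((S.XS T ⊔ S.H) ⊓ fixS (twE m σ)) := by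
  have := A.finite_fixS_of_pow (A.gf_twE A.gf hm).pow
  have : Finite ↥((S.XS T ⊔ S.H) ⊓ fixS (twE m σ)) := Finite.of_injective _ (Subgroup.inclusion_injective inf_le_right)
  have h1 := TwUx.card_le A hm (one_mem _) (T := {r | R.IsPos r} ∩ T) (fun r hr => hr.1) (R.closed_pos.inter hc)
    fun r hr => ⟨hp r hr.2 hr.1, hs r hr.2⟩
  have h2 := TwUx.card_le A hm (R.w0_mem_W Set.univ) (T := {r | ¬ R.IsPos r} ∩ T)
    (fun r hr => (R.isPos_w0_univ r).2 hr.1) (R.closed_neg.inter hc) fun r hr => ⟨by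
      have := hp _ (hn r hr.2) ((R.isPos_neg r).2 hr.1)
      rwa [RootSys.W_neg hm.mem_W, R.isPos_neg] at this, hs r hr.2⟩
  have h3 : T.ncard = ({r | R.IsPos r} ∩ T).ncard + ({r | ¬ R.IsPos r} ∩ T).ncard := by
    rw [← Set.ncard_union_eq (Set.disjoint_left.2 fun r h h' => h'.1 h.1)]
    congr 1; ext r; by_cases h : R.IsPos r <;> simp [h]
  let f : ↥(S.XS ({r | R.IsPos r} ∩ T) ⊓ fixS (twE m σ)) × ↥(S.XS ({r | ¬ R.IsPos r} ∩ T) ⊓ fixS (twE m σ)) ×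
      {u : κ → Kˣ // R.act w⁻¹ u = u ^ q} → ↥((S.XS T ⊔ S.H) ⊓ fixS (twE m σ)) := fun p =>
    ⟨p.1 * A.r3.torHom p.2.2 * p.2.1, mul_mem (mul_mem
      (Subgroup.mem_sup_left (S.XS_mono Set.inter_subset_right p.1.2.1)) (Subgroup.mem_sup_right (A.r3.torHom_mem _)))
      (Subgroup.mem_sup_left (S.XS_mono Set.inter_subset_right p.2.1.2.1)),
      mul_mem (mul_mem p.1.2.2 ((A.twE_torHom_iff hm _).2 p.2.2.2)) p.2.1.2.2⟩
  have hf : Function.Injective f := by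
    rintro ⟨u, v, h⟩ ⟨u', v', h'⟩ e
    have e1 : u * A.r3.torHom h * v = u' * A.r3.torHom h' * v' := congrArg Subtype.val e
    have a1 := S.XS_le_U (fun _ h => h.1) u.2.1
    have a2 := S.XS_le_U (fun _ h => h.1) u'.2.1
    have a3 := A.r3.torHom_mem h.1
    have a4 := A.r3.torHom_mem h'.1
    have e2 : (v' : Γ) * (v : Γ)⁻¹ = 1 := A.good.eq_one_of_mem_B_V (by
      rw [show (v' : Γ) * (v : Γ)⁻¹ = (u' * A.r3.torHom h')⁻¹ * (u * A.r3.torHom h) by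
        rw [eq_inv_mul_iff_mul_eq, ← mul_assoc, ← e1]; group]
      exact mul_mem (inv_mem (mul_mem (S.U_le_B a2) (S.H_le_B a4))) (mul_mem (S.U_le_B a1) (S.H_le_B a3)))
      (mul_mem (S.XS_le_V (fun _ h => h.1) v'.2.1) (inv_mem (S.XS_le_V (fun _ h => h.1) v.2.1)))
    obtain rfl : v' = v := Subtype.ext (mul_inv_eq_one.1 e2)
    have e3 := mul_right_cancel e1
    have e4 : (u' : Γ)⁻¹ * u ∈ S.U ⊓ S.H := Subgroup.mem_inf.2 ⟨mul_mem (inv_mem a2) a1, by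
      rw [show (u' : Γ)⁻¹ * u = A.r3.torHom h' * (A.r3.torHom h)⁻¹ by
        rw [eq_mul_inv_iff_mul_eq, mul_assoc, e3]; group]
      exact mul_mem a4 (inv_mem a3)⟩
    rw [A.good.U_inf_H, Subgroup.mem_bot] at e4
    obtain rfl : u' = u := Subtype.ext (inv_mul_eq_one.1 e4)
    obtain rfl : h = h' := Subtype.ext (A.sc (mul_left_cancel e3))
    rfl
  have h4 := Nat.card_le_card_of_injective f hf
  rw [Nat.card_prod, Nat.card_prod, ← mul_assoc] at h4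
  rw [h3, pow_add]
  exact le_trans (Nat.mul_le_mul_right _ (Nat.mul_le_mul h1 h2)) h4

omit [Finite ι] [IsAlgClosed K] in
theorem card_conj {s y m a : Γ} (hm : m = y * (σ y)⁻¹) (e : y * s * y⁻¹ = a) :
    Nat.card ↥(Subgroup.centralizer {s} ⊓ fixS σ) = Nat.card ↥(Subgroup.centralizer {a} ⊓ fixS (twE m σ)) := by
  subst e
  refine Nat.card_congr ((MulAut.conj y).toEquiv.subtypeEquiv fun x => ?_)
  simp only [Subgroup.mem_inf, Subgroup.mem_centralizer_singleton_iff, mem_fixS, MulEquiv.toEquiv_eq_coe,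
    EquivLike.coe_coe, MulAut.conj_apply, twE_conj_iff hm]
  refine and_congr_left fun _ => ⟨fun h => ?_, fun h => (MulAut.conj y).injective (by simpa using h)⟩
  simpa using congrArg (MulAut.conj y) h

/-- the lower bound for the centraliser of a semisimple element of the finite group -/
theorem main (A : S.Alg φ q σ) {G : Type*} [Group G] {ψ : G →* Γ} (hψ : Function.Injective ψ)
    (hfix : ∀ y, y ∈ ψ.range ↔ σ y = y) {s : G} {g : Γ} {t : κ → Kˣ} (e : g * ψ s * g⁻¹ = A.r3.torHom t) :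
    ∃ y m w, S.Acts m w ∧ m = y * (σ y)⁻¹ ∧ y * ψ s * y⁻¹ = A.r3.torHom t ∧ R.act w⁻¹ t = t ^ q ∧
      (∀ r ∈ R.Phi t, R.IsPos r → R.IsPos (w r)) ∧
      (q : ℤ) ^ (R.Phi t).ncard * ((q : Matrix κ κ ℤ) - R.coM w⁻¹).det ≤ Nat.card (Subgroup.centralizer {s}) := by
  obtain ⟨y, m, w, h1, h2, h3, h4, h5⟩ := frame A ((hfix _).1 ⟨s, rfl⟩) e
  refine ⟨y, m, w, h1, h2, h3, h4, h5, ?_⟩
  rw [card_centralizer_eq hψ hfix, card_conj h2 h3, A.centralizer_torHom,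
    ← RootSys.card_act_eq_pow (K := K) (inv_mem h1.mem_W) A.frob.one_lt A.frob.cast_eq_zero]
  exact_mod_cast cell A h1 (RootSys.closed_Phi t) (fun _ => RootSys.neg_mem_Phi) (fun _ => mem_Phi h1.mem_W h4) h5

end CL.E87.TwX
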